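import Cfsg.Agent.Lib.ShortPres.AltOn

/-!
# Carmichael's presentation of the alternating groups

Elements with `y i ^ 3 = 1` and `(y i * y j) ^ 2 = 1` for `i ≠ j` are the image of the three-cycles
through two base points under a homomorphism from the alternating group.
-/

namespace CfsgLib.ShortPres

open Equiv Equiv.Perm

/-- Carmichael's relations on a finite set of indices. -/
def Carm {G ι : Type*} [Group G] (y : ι → G) : Prop :=
  (∀ i, y i ^ 3 = 1) ∧ ∀ i j, i ≠ j → (y i * y j) ^ 2 = 1

section Bound

variable {G ι : Type*} [Group G] [DecidableEq ι] {y : ι → G} (h : Carm y)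
include h

theorem Carm.card_closure_le (F : Finset ι) :
    ((Subgroup.closure (y '' F) : Subgroup G) : Set G).Finite ∧
      2 * ((Subgroup.closure (y '' F) : Subgroup G) : Set G).ncard ≤ (F.card + 2).factorial := by
  induction F using Finset.induction with
  | empty =>
    simp [Subgroup.closure_empty, Nat.factorial]
  | insert k F hk ih =>
    obtain ⟨hfin, hcard⟩ := ih
    set H := Subgroup.closure (y '' F) with hH
    set x := y k with hx
    have hyH : ∀ i ∈ F, y i ∈ H := fun i hi => Subgroup.subset_closure ⟨i, hi, rfl⟩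
    have x3 : x * x * x = 1 := by rw [hx, ← h.1 k, pow_succ, pow_two]
    have xinv : x⁻¹ = x * x := inv_eq_of_mul_eq_one_right (by rw [← mul_assoc, x3])
    have hxy : ∀ i ∈ F, x * y i * x = (y i)⁻¹ := by
      intro i hi
      have := h.2 k i (fun e => hk (e ▸ hi))
      rw [pow_two, ← mul_assoc] at this
      exact eq_inv_of_mul_eq_one_left this
    have yinv : ∀ i, (y i)⁻¹ = y i * y i := fun i =>
      inv_eq_of_mul_eq_one_right (by rw [← mul_assoc, ← pow_two, ← pow_succ, h.1 i])
    let rep : Option (Option (Option {i // i ∈ F})) → G := fun o => match o with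
      | none => 1
      | some none => x
      | some (some none) => x⁻¹
      | some (some (some j)) => y j * x⁻¹
    let U : Set G := Set.image2 (· * ·) (Set.range rep) (H : Set G)
    have memU : ∀ o g, (rep o)⁻¹ * g ∈ H → g ∈ U := fun o g hg =>
      ⟨rep o, ⟨o, rfl⟩, _, hg, by group⟩
    have hUfin : U.Finite := (Set.finite_range rep).image2 _ hfin
    have hgenU : ∀ i ∈ insert k F, ∀ u ∈ U, y i * u ∈ U := by
      rintro i hi _ ⟨_, ⟨o, rfl⟩, m, hm, rfl⟩
      suffices ∃ o', (rep o')⁻¹ * (y i * rep o) ∈ H by
        obtain ⟨o', ho'⟩ := this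
        refine memU o' _ ?_
        have := H.mul_mem ho' hm
        rwa [mul_assoc, mul_assoc] at this
      rcases Finset.mem_insert.1 hi with rfl | hi
      · match o with
        | none => exact ⟨some none, by simp [rep, ← hx, one_mem]⟩
        | some none => exact ⟨some (some none), by simp [rep, ← hx, ← mul_assoc, x3, one_mem]⟩
        | some (some none) => exact ⟨none, by simp [rep, ← hx, one_mem]⟩
        | some (some (some j)) =>
          refine ⟨some (some (some j)), ?_⟩
          -- `x y_j x⁻¹ = y_j⁻¹ x`, and `y_j⁻¹ x = y_j x⁻¹ h`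
          have e : x * (y j * x⁻¹) = y j * x⁻¹ * (y j)⁻¹ := by
            have e1 : x * y (j : ι) = (y j)⁻¹ * x⁻¹ := by
              rw [← hxy j j.2]; group
            have e2 : x⁻¹ * (y (j : ι))⁻¹ = y j * x := by
              have := congrArg (·⁻¹) (hxy j j.2)
              simp only [inv_inv, mul_inv_rev] at this
              calc x⁻¹ * (y (j : ι))⁻¹ = x⁻¹ * ((y j)⁻¹ * x⁻¹) * x := by group
                _ = y j * x := by rw [this]
            calc x * (y (j : ι) * x⁻¹) = (y j)⁻¹ * (x⁻¹ * x⁻¹) := by rw [← mul_assoc, e1, mul_assoc]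
              _ = y j * y j * x := by
                rw [yinv, show x⁻¹ * x⁻¹ = x by
                  rw [← mul_inv_rev, ← xinv, inv_inv]]
              _ = y j * x⁻¹ * (y j)⁻¹ := by rw [mul_assoc (y (j : ι)) x⁻¹, e2, ← mul_assoc]
          simp only [rep, ← hx]
          rw [e, inv_mul_cancel_left]
          exact H.inv_mem (hyH j j.2)
      · have hne : i ≠ k := fun e => hk (e ▸ hi)
        match o with
        | none => exact ⟨none, by simpa [rep] using hyH i hi⟩
        | some none =>
          refine ⟨some (some none), ?_⟩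
          simp only [rep, inv_inv]
          rw [← mul_assoc, hxy i hi]
          exact H.inv_mem (hyH i hi)
        | some (some none) =>
          refine ⟨some (some (some ⟨i, hi⟩)), ?_⟩
          simp only [rep]
          rw [inv_mul_cancel]
          exact one_mem H
        | some (some (some j)) =>
          by_cases hij : i = j
          · refine ⟨some none, ?_⟩
            subst hij
            simp only [rep]
            rw [← mul_assoc (y j), ← yinv, ← hxy j j.2]
            have : x⁻¹ * (x * y (j : ι) * x * x⁻¹) = y j := by group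
            rw [this]
            exact hyH j j.2
          · refine ⟨some (some (some j)), ?_⟩
            simp only [rep]
            have e1 : y i * y (j : ι) = (y j)⁻¹ * (y i)⁻¹ := by
              have := h.2 i j hij
              rw [pow_two] at this
              rw [← mul_inv_rev]
              exact (inv_eq_of_mul_eq_one_right this).symm
            have e2 : (y i)⁻¹ * x⁻¹ = x * y i := by
              rw [← hxy i hi]; group
            have e3 : (y (j : ι) * x⁻¹)⁻¹ * (y i * (y j * x⁻¹)) = (y j)⁻¹ * y i := by
              have a1 : (y (j : ι))⁻¹ * (y j)⁻¹ = y j := by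
                rw [← mul_inv_rev, ← yinv, inv_inv]
              have a2 : x * y (j : ι) = (y j)⁻¹ * x⁻¹ := by rw [← hxy j j.2]; group
              calc (y (j : ι) * x⁻¹)⁻¹ * (y i * (y j * x⁻¹))
                  = x * (y j)⁻¹ * (y i * y j) * x⁻¹ := by group
                _ = x * ((y j)⁻¹ * (y j)⁻¹) * ((y i)⁻¹ * x⁻¹) := by rw [e1]; group
                _ = x * y j * (x * y i) := by rw [a1, e2]
                _ = (y j)⁻¹ * y i := by rw [a2]; group
            rw [e3]
            exact H.mul_mem (H.inv_mem (hyH j j.2)) (hyH i hi)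
    set K := Subgroup.closure (y '' ((insert k F : Finset ι) : Set ι)) with hK
    have hsub : (K : Set G) ⊆ U := by
      have h1 : (1 : G) ∈ U := memU none 1 (by simp [rep, one_mem])
      intro g hg
      suffices ∀ u ∈ U, g * u ∈ U by simpa using this 1 h1
      induction hg using Subgroup.closure_induction with
      | mem g hg =>
        obtain ⟨i, hi, rfl⟩ := hg
        exact hgenU i hi
      | one => simp
      | mul a b _ _ ha hb => intro u hu; rw [mul_assoc]; exact ha _ (hb u hu)
      | inv a _ ha =>
        intro u hu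
        obtain ⟨v, hv, rfl⟩ : u ∈ (fun u => a * u) '' U :=
          (Set.eq_of_subset_of_ncard_le (by rintro _ ⟨w, hw, rfl⟩; exact ha w hw)
            (by rw [Set.ncard_image_of_injective _ (mul_right_injective a)]) hUfin).ge hu
        simpa using hv
    refine ⟨hUfin.subset hsub, ?_⟩
    rw [Finset.card_insert_of_notMem hk]
    calc 2 * (K : Set G).ncard ≤ 2 * U.ncard :=
          Nat.mul_le_mul le_rfl (Set.ncard_le_ncard hsub hUfin)
      _ ≤ 2 * ((Set.range rep).ncard * (H : Set G).ncard) := by
          refine Nat.mul_le_mul le_rfl ?_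
          rw [show U = (fun p : G × G => p.1 * p.2) '' (Set.range rep ×ˢ (H : Set G)) from
            (Set.image_prod _).symm]
          exact le_trans (Set.ncard_image_le ((Set.finite_range rep).prod hfin))
            (by rw [Set.ncard_prod])
      _ ≤ 2 * ((F.card + 3) * (H : Set G).ncard) := by
          refine Nat.mul_le_mul le_rfl (Nat.mul_le_mul ?_ le_rfl)
          calc (Set.range rep).ncard ≤ Nat.card (Option (Option (Option {i // i ∈ F}))) := by
                rw [← Nat.card_coe_set_eq]; exact Finite.card_range_le rep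
            _ = F.card + 3 := by simp
      _ = (F.card + 3) * (2 * (H : Set G).ncard) := by ring
      _ ≤ (F.card + 3) * (F.card + 2).factorial := Nat.mul_le_mul le_rfl hcard
      _ = (F.card + 1 + 2).factorial := rfl

end Bound

section Hom

variable {α : Type*} [DecidableEq α] [Fintype α]

theorem carm_cyc3 {ι : Type*} {a b : α} {e : ι → α} (he : Function.Injective e) (hab : a ≠ b)
    (hea : ∀ i, e i ≠ a) (heb : ∀ i, e i ≠ b) : Carm fun i => cyc3 a b (e i) := by
  refine ⟨fun i => ?_, fun i j hij => ?_⟩
  · ext c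
    rw [pow_succ, pow_two]
    simp only [Perm.mul_apply, Perm.one_apply]
    have ha := cyc3_a hab (heb i)
    have hb : cyc3 a b (e i) b = e i := cyc3_b
    have hx := cyc3_x (Ne.symm (hea i)) (heb i)
    by_cases h1 : c = a
    · subst h1; rw [ha, hb, hx]
    by_cases h2 : c = b
    · subst h2; rw [hb, hx, ha]
    by_cases h3 : c = e i
    · subst h3; rw [hx, ha, hb]
    rw [cyc3_of_ne h1 h2 h3, cyc3_of_ne h1 h2 h3, cyc3_of_ne h1 h2 h3]
  · have hne : e i ≠ e j := fun h => hij (he h)
    ext c
    rw [pow_two]
    simp only [Perm.mul_apply, Perm.one_apply]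
    have hai := cyc3_a hab (heb i)
    have haj := cyc3_a hab (heb j)
    have hbi : cyc3 a b (e i) b = e i := cyc3_b
    have hbj : cyc3 a b (e j) b = e j := cyc3_b
    have hii := cyc3_x (Ne.symm (hea i)) (heb i)
    have hjj := cyc3_x (Ne.symm (hea j)) (heb j)
    have hij' : cyc3 a b (e i) (e j) = e j := cyc3_of_ne (hea j) (heb j) hne.symm
    have hji' : cyc3 a b (e j) (e i) = e i := cyc3_of_ne (hea i) (heb i) hne
    by_cases h1 : c = a
    · subst h1; rw [haj, hbi, hji', hii]
    by_cases h2 : c = b
    · subst h2; rw [hbj, hij', hjj, hai]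
    by_cases h3 : c = e i
    · subst h3; rw [hji', hii, haj, hbi]
    by_cases h4 : c = e j
    · subst h4; rw [hjj, hai, hbj, hij']
    rw [cyc3_of_ne h1 h2 h4, cyc3_of_ne h1 h2 h3, cyc3_of_ne h1 h2 h4, cyc3_of_ne h1 h2 h3]

theorem card_altOn (X : Set α) [Nontrivial X] : (Nat.card X).factorial ≤ 2 * Nat.card (altOn X) := by
  classical
  have h1 : 2 * Nat.card (alternatingGroup X) = (Nat.card X).factorial := by
    rw [two_mul_nat_card_alternatingGroup, Nat.card_perm]
  rw [← h1]
  refine Nat.mul_le_mul le_rfl ?_
  let f : alternatingGroup X → altOn X := fun σ => ⟨ofSubtype (σ : Perm X), mem_altOn.2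
    ⟨fun c hc => ofSubtype_apply_of_not_mem _ hc,
      by rw [sign_ofSubtype]; exact mem_alternatingGroup.1 σ.2⟩⟩
  exact Nat.card_le_card_of_injective f fun s t hst =>
    Subtype.ext (ofSubtype_injective (congrArg Subtype.val hst))

/-- **Carmichael's theorem**, as the existence of a homomorphism. -/
theorem Carm.exists_hom {G : Type*} [Group G] {ι : Type*} [Finite ι] [Nonempty ι] {y : ι → G}
    (h : Carm y) {a b : α} {e : ι → α} (he : Function.Injective e) (hab : a ≠ b)
    (hea : ∀ i, e i ≠ a) (heb : ∀ i, e i ≠ b) :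
    ∃ φ : altOn (insert a (insert b (Set.range e))) →* G, ∀ i,
      φ ⟨cyc3 a b (e i), cyc3_mem_altOn (Set.mem_insert _ _) (Set.mem_insert_of_mem _ (Set.mem_insert _ _))
        (Set.mem_insert_of_mem _ (Set.mem_insert_of_mem _ ⟨i, rfl⟩)) hab (Ne.symm (hea i))⟩ = y i := by
  classical
  haveI := Fintype.ofFinite ι
  set X := insert a (insert b (Set.range e)) with hX
  let c : ι → altOn X := fun i => ⟨cyc3 a b (e i), cyc3_mem_altOn (Set.mem_insert _ _)
    (Set.mem_insert_of_mem _ (Set.mem_insert _ _))
    (Set.mem_insert_of_mem _ (Set.mem_insert_of_mem _ ⟨i, rfl⟩)) hab (Ne.symm (hea i))⟩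
  let z : ι → G × altOn X := fun i => (y i, c i)
  have hc := carm_cyc3 he hab hea heb
  have hz : Carm z := ⟨fun i => Prod.ext (h.1 i) (Subtype.ext (hc.1 i)),
    fun i j hij => Prod.ext (h.2 i j hij) (Subtype.ext (hc.2 i j hij))⟩
  obtain ⟨hfin, hle⟩ := hz.card_closure_le (Finset.univ : Finset ι)
  rw [Finset.coe_univ, Set.image_univ] at hfin hle
  rw [Finset.card_univ] at hle
  set Γ := Subgroup.closure (Set.range z) with hΓ
  haveI : Finite Γ := hfin.to_subtype
  let pr : Γ →* altOn X := (MonoidHom.snd G (altOn X)).comp Γ.subtype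
  have hsurj : Function.Surjective pr := by
    have hgen : altOn X ≤ ((MonoidHom.snd G (altOn X)).comp Γ.subtype).range.map (altOn X).subtype := by
      refine (altOn_le_closure (Set.mem_insert _ _) (Set.mem_insert_of_mem _ (Set.mem_insert _ _)) hab).trans
        ((Subgroup.closure_le _).2 ?_)
      rintro _ ⟨x, hx, hxa, hxb, rfl⟩
      obtain ⟨i, rfl⟩ : x ∈ Set.range e := by
        rcases hx with e1 | e1 | e1
        · exact absurd e1 hxa
        · exact absurd e1 hxb
        · exact e1
      exact ⟨c i, ⟨⟨z i, Subgroup.subset_closure ⟨i, rfl⟩⟩, rfl⟩, rfl⟩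
    intro σ
    obtain ⟨τ, ⟨g, hg⟩, hτ⟩ := hgen σ.2
    exact ⟨g, hg.trans (Subtype.ext hτ)⟩
  have hinj : Function.Injective pr := by
    haveI : Nontrivial X := ⟨⟨⟨a, Set.mem_insert _ _⟩, ⟨b, Set.mem_insert_of_mem _ (Set.mem_insert _ _)⟩,
      fun e1 => hab (congrArg Subtype.val e1)⟩⟩
    have hcX : Nat.card X = Fintype.card ι + 2 := by
      rw [hX, Nat.card_coe_set_eq, Set.ncard_insert_of_notMem (by simp [hab, hea]),
        Set.ncard_insert_of_notMem (by simp [heb]), Set.ncard_range_of_injective he, Nat.card_eq_fintype_card]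
    have h2 := card_altOn X
    rw [hcX] at h2
    have h3 : Nat.card Γ ≤ Nat.card (altOn X) := by
      have : Nat.card Γ = ((Γ : Subgroup (G × altOn X)) : Set (G × altOn X)).ncard :=
        Nat.card_coe_set_eq _
      omega
    exact ((Nat.bijective_iff_surjective_and_card pr).2
      ⟨hsurj, le_antisymm h3 (Nat.card_le_card_of_surjective pr hsurj)⟩).1
  let E := MulEquiv.ofBijective pr ⟨hinj, hsurj⟩
  refine ⟨((MonoidHom.fst G (altOn X)).comp Γ.subtype).comp E.symm.toMonoidHom, fun i => ?_⟩
  have : E.symm (c i) = ⟨z i, Subgroup.subset_closure ⟨i, rfl⟩⟩ := E.injective (by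
    rw [MulEquiv.apply_symm_apply]; rfl)
  show (E.symm (c i) : G × altOn X).1 = y i
  rw [this]

end Hom

end CfsgLib.ShortPres
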