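import Mathlib.Data.Nat.Choose.Factorization
import Mathlib.NumberTheory.Primorial
import Mathlib.Analysis.Convex.SpecificFunctions.Basic
import Mathlib.Analysis.Convex.SpecificFunctions.Deriv
import Mathlib.NumberTheory.Bertrand
import Mathlib.Tactic.NormNum.Prime

/-!
# A prime strictly inside `(k, 2 k - 1)`

The argument of Erdős, with one more factor for the possible prime `2 k - 1`
(adapted from Mathlib's proof of Bertrand's postulate).
-/

namespace CfsgLib.ShortPres

open Real in
theorem real_ineq {x : ℝ} (x_large : (512 : ℝ) ≤ x) :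
    x * (2 * x) ^ (√(2 * x) + 1) * 4 ^ (2 * x / 3) ≤ 4 ^ x := by
  let f : ℝ → ℝ := fun x => log x + log x + √(2 * x) * log (2 * x) + log 2 - log 4 / 3 * x
  have hf' : ∀ x, 0 < x → 0 < x * (2 * x) ^ (√(2 * x) + 1) / 4 ^ (x / 3) := fun x h =>
    div_pos (mul_pos h (rpow_pos_of_pos (mul_pos two_pos h) _)) (rpow_pos_of_pos four_pos _)
  have hf : ∀ x, 0 < x → f x = log (x * (2 * x) ^ (√(2 * x) + 1) / 4 ^ (x / 3)) := by
    intro x h5
    have h6 := mul_pos (zero_lt_two' ℝ) h5
    have h7 := rpow_pos_of_pos h6 (√(2 * x) + 1)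
    rw [log_div (mul_pos h5 h7).ne' (rpow_pos_of_pos four_pos _).ne', log_mul h5.ne' h7.ne',
      log_rpow h6, log_rpow zero_lt_four, add_mul, one_mul]
    show log x + log x + √(2 * x) * log (2 * x) + log 2 - log 4 / 3 * x = _
    rw [log_mul two_ne_zero h5.ne']
    ring
  have h5 : 0 < x := lt_of_lt_of_le (by norm_num1) x_large
  rw [← div_le_one (rpow_pos_of_pos four_pos x), ← div_div_eq_mul_div, ← rpow_sub four_pos, ←
    mul_div 2 x, mul_div_left_comm, ← mul_one_sub, (by norm_num1 : (1 : ℝ) - 2 / 3 = 1 / 3),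
    mul_one_div, ← log_nonpos_iff (hf' x h5).le, ← hf x h5]
  have hlog : ConcaveOn ℝ (Set.Ioi (0.5 : ℝ)) log := strictConcaveOn_log_Ioi.concaveOn.subset
    (Set.Ioi_subset_Ioi (by norm_num)) (convex_Ioi 0.5)
  have h : ConcaveOn ℝ (Set.Ioi 0.5) f := by
    apply ConcaveOn.sub
    · refine ((hlog.add hlog).add ?_).add (concaveOn_const _ (convex_Ioi 0.5))
      convert!
        ((strictConcaveOn_sqrt_mul_log_Ioi.concaveOn.comp_linearMap ((2 : ℝ) • LinearMap.id)))
        using 1
      ext x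
      simp only [Set.mem_Ioi, Set.mem_preimage, LinearMap.smul_apply,
        LinearMap.id_coe, id_eq, smul_eq_mul]
      rw [← mul_lt_mul_iff_right₀ (two_pos)]
      norm_num1
      rfl
    apply ConvexOn.smul
    · refine div_nonneg (log_nonneg (by norm_num1)) (by norm_num1)
    · exact convexOn_id (convex_Ioi (0.5 : ℝ))
  suffices ∃ x1 x2, 0.5 < x1 ∧ x1 < x2 ∧ x2 ≤ x ∧ 0 ≤ f x1 ∧ f x2 ≤ 0 by
    obtain ⟨x1, x2, h1, h2, h0, h3, h4⟩ := this
    exact (h.right_le_of_le_left'' h1 ((h1.trans h2).trans_le h0) h2 h0 (h4.trans h3)).trans h4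
  refine ⟨18, 512, by norm_num1, by norm_num1, x_large, ?_, ?_⟩
  · have : √(2 * 18 : ℝ) = 6 := (sqrt_eq_iff_mul_self_eq_of_pos (by norm_num1)).mpr (by norm_num1)
    rw [hf _ (by norm_num1), log_nonneg_iff (by positivity), this, one_le_div (by norm_num1)]
    norm_num1
  · have : √(2 * 512) = 32 :=
      (sqrt_eq_iff_mul_self_eq_of_pos (by norm_num1)).mpr (by norm_num1)
    rw [hf _ (by norm_num1), log_nonpos_iff (hf' _ (by norm_num1)).le, this,
        div_le_one (by positivity)]
    rw [show (512 : ℝ) * (2 * 512) ^ ((32 : ℝ) + 1) = (2 : ℝ) ^ (339 : ℕ) by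
        rw [show (32 : ℝ) + 1 = ((33 : ℕ) : ℝ) by norm_num, rpow_natCast,
          show (512 : ℝ) = 2 ^ 9 by norm_num, show (2 : ℝ) * 2 ^ 9 = 2 ^ 10 by norm_num, ← pow_mul, ← pow_add],
      show (4 : ℝ) = (2 : ℝ) ^ ((2 : ℕ) : ℝ) by rw [rpow_natCast]; norm_num,
      ← rpow_mul two_pos.le, ← rpow_natCast]
    exact rpow_le_rpow_of_exponent_le one_le_two (by norm_num)

open Nat

theorem main_ineq {n : ℕ} (n_large : 512 ≤ n) :
    n * (2 * n) ^ (sqrt (2 * n) + 1) * 4 ^ (2 * n / 3) ≤ 4 ^ n := by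
  rw [← @cast_le ℝ]
  simp only [cast_mul, cast_pow, ← Real.rpow_natCast, cast_ofNat, cast_add, cast_one]
  refine _root_.trans ?_ (real_ineq (by exact_mod_cast n_large))
  gcongr
  · have n2_pos : 1 ≤ 2 * n := by omega
    exact mod_cast n2_pos
  · exact_mod_cast Real.nat_sqrt_le_real_sqrt
  · norm_num1
  · exact cast_div_le.trans (by norm_cast)

theorem centralBinom_le {n : ℕ} (n_large : 2 < n)
    (no_prime : ∀ p : ℕ, p.Prime → n < p → 2 * n - 2 < p) :
    centralBinom n ≤ (2 * n) ^ (sqrt (2 * n) + 1) * 4 ^ (2 * n / 3) := by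
  classical
  have n_pos : 0 < n := (Nat.zero_le _).trans_lt n_large
  have n2_pos : 1 ≤ 2 * n := by omega
  let f x := x ^ n.centralBinom.factorization x
  let S := {p ∈ Finset.range (2 * n / 3 + 1) | Nat.Prime p}
  have hprod : centralBinom n = ∏ x ∈ insert (2 * n - 1) S, f x := by
    refine (Eq.trans ?_ n.prod_pow_factorization_centralBinom).symm
    refine Finset.prod_subset ?_ ?_
    · intro x hx
      rw [Finset.mem_range]
      rcases Finset.mem_insert.1 hx with rfl | hx
      · omega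
      · have := Finset.mem_range.1 (Finset.mem_filter.1 hx).1
        omega
    intro x hx h2x
    rw [Finset.mem_range] at hx
    by_cases hxp : x.Prime
    · have h3 : 2 * n < 3 * x := by
        by_contra hh
        exact h2x (Finset.mem_insert_of_mem (Finset.mem_filter.2 ⟨Finset.mem_range.2 (by omega), hxp⟩))
      have hxn : x ≤ n := by
        by_contra hh
        have := no_prime x hxp (by omega)
        have hne : x ≠ 2 * n - 1 := fun e => h2x (e ▸ Finset.mem_insert_self _ _)
        have : x = 2 * n := by omega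
        have := (Nat.prime_dvd_prime_iff_eq Nat.prime_two hxp).1 ⟨n, this⟩
        omega
      show x ^ _ = 1
      rw [factorization_centralBinom_of_two_mul_self_lt_three_mul n_large hxn h3, Nat.pow_zero]
    · show x ^ _ = 1
      rw [factorization_eq_zero_of_not_prime n.centralBinom hxp, Nat.pow_zero]
  have hnot : 2 * n - 1 ∉ S := fun h => by
    have := Finset.mem_range.1 (Finset.mem_filter.1 h).1
    omega
  have hf : ∀ p, f p ≤ 2 * n := fun p => pow_factorization_choose_le (mul_pos two_pos n_pos)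
  rw [hprod, Finset.prod_insert hnot, Nat.pow_succ', mul_assoc]
  refine Nat.mul_le_mul (hf _) ?_
  rw [← Finset.prod_filter_mul_prod_filter_not S (· ≤ sqrt (2 * n))]
  apply mul_le_mul'
  · refine (Finset.prod_le_prod' fun p _ => hf p).trans ?_
    have : (Finset.Icc 1 (sqrt (2 * n))).card = sqrt (2 * n) := by rw [card_Icc, Nat.add_sub_cancel]
    rw [Finset.prod_const]
    refine pow_right_mono₀ n2_pos ((Finset.card_le_card fun x hx => ?_).trans this.le)
    obtain ⟨h1, h2⟩ := Finset.mem_filter.1 hx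
    exact Finset.mem_Icc.mpr ⟨(Finset.mem_filter.1 h1).2.one_lt.le, h2⟩
  · refine le_trans ?_ (primorial_le_four_pow (2 * n / 3))
    refine (Finset.prod_le_prod' fun p hp => (?_ : f p ≤ p)).trans ?_
    · obtain ⟨h1, h2⟩ := Finset.mem_filter.1 hp
      refine (pow_right_mono₀ (Finset.mem_filter.1 h1).2.one_lt.le ?_).trans (pow_one p).le
      exact Nat.factorization_choose_le_one (sqrt_lt'.mp <| not_le.1 h2)
    refine Finset.prod_le_prod_of_subset_of_one_le' (Finset.filter_subset _ _) ?_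
    exact fun p hp _ => (Finset.mem_filter.1 hp).2.one_lt.le

theorem exists_prime_large {n : ℕ} (n_large : 512 ≤ n) :
    ∃ p : ℕ, p.Prime ∧ n < p ∧ p ≤ 2 * n - 2 := by
  have h1 : 4 ^ n < n * n.centralBinom := Nat.four_pow_lt_mul_centralBinom n (by omega)
  contrapose! h1
  grw [centralBinom_le (by omega) h1, ← mul_assoc, main_ineq n_large]

theorem step {n : ℕ} (q : ℕ) {p : ℕ} (prime_p : Nat.Prime p) (covering : p + 2 ≤ 2 * q)
    (H : n < q → ∃ p : ℕ, p.Prime ∧ n < p ∧ p ≤ 2 * n - 2) (hn : n < p) :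
    ∃ p : ℕ, p.Prime ∧ n < p ∧ p ≤ 2 * n - 2 := by
  by_cases h : n < q
  · exact H h
  · exact ⟨p, prime_p, hn, by omega⟩

/-- There is a prime `p` with `k < p ≤ 2 k - 2` for `4 ≤ k`. -/
theorem exists_prime_between {k : ℕ} (hk : 4 ≤ k) :
    ∃ p : ℕ, p.Prime ∧ k < p ∧ p ≤ 2 * k - 2 := by
  rcases lt_or_ge 511 k with h | h
  · exact exists_prime_large h
  replace h : k < 523 := by omega
  revert h
  refine step 277 (by norm_num1) (by norm_num1) ?_
  refine step 149 (by norm_num1) (by norm_num1) ?_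
  refine step 79 (by norm_num1) (by norm_num1) ?_
  refine step 43 (by norm_num1) (by norm_num1) ?_
  refine step 23 (by norm_num1) (by norm_num1) ?_
  refine step 13 (by norm_num1) (by norm_num1) ?_
  refine step 11 (by norm_num1) (by norm_num1) ?_
  refine step 7 (by norm_num1) (by norm_num1) ?_
  refine step 5 (by norm_num1) (by norm_num1) ?_
  intro h
  exact ⟨5, by norm_num1, by omega, by omega⟩

end CfsgLib.ShortPres
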