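import Mathlib.GroupTheory.PresentedGroup
import Mathlib.SetTheory.Cardinal.Finite
import Mathlib.GroupTheory.FreeGroup.Basic
import Mathlib.Data.Set.Card

/-!
# Recognizing and transporting presentations of finite groups
-/

namespace CfsgLib.ShortPres

/-- `rels` present the group `T` on the generators `x`. -/
structure Presents {T : Type} [Group T] {κ : Type} (rels : Finset (FreeGroup κ)) (x : κ → T) : Prop where
  gen : Subgroup.closure (Set.range x) = ⊤
  holds : ∀ r ∈ rels, FreeGroup.lift x r = 1
  bound : ∀ (G : Type) [Group G] (f : κ → G), (∀ r ∈ rels, FreeGroup.lift f r = 1) →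
    ((Subgroup.closure (Set.range f) : Subgroup G) : Set G).Finite ∧
      ((Subgroup.closure (Set.range f) : Subgroup G) : Set G).ncard ≤ Nat.card T

variable {T : Type} [Group T] {κ : Type} {rels : Finset (FreeGroup κ)} {x : κ → T}

theorem Presents.iso [Finite T] (h : Presents rels x) :
    ∃ e : PresentedGroup (↑rels : Set (FreeGroup κ)) ≃* T, ∀ k, e (PresentedGroup.of k) = x k := by
  let P := PresentedGroup (↑rels : Set (FreeGroup κ))
  have hrel : ∀ r ∈ rels, FreeGroup.lift (PresentedGroup.of (rels := (↑rels : Set (FreeGroup κ)))) r = 1 := by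
    intro r hr
    have e1 : FreeGroup.lift (PresentedGroup.of (rels := (↑rels : Set (FreeGroup κ)))) =
        PresentedGroup.mk (↑rels : Set (FreeGroup κ)) := by
      ext k; simp only [FreeGroup.lift_apply_of]; rfl
    rw [e1]
    exact (PresentedGroup.mk_eq_one_iff).mpr (Subgroup.subset_normalClosure hr)
  obtain ⟨hfin, hcard⟩ := h.bound P _ hrel
  rw [PresentedGroup.closure_range_of, Subgroup.coe_top] at hfin hcard
  haveI : Finite P := Set.finite_univ_iff.1 hfin
  rw [Set.ncard_univ] at hcard
  let φ : P →* T := PresentedGroup.toGroup (f := x) (fun r hr => h.holds r hr)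
  have hφ : ∀ k, φ (PresentedGroup.of k) = x k := fun k => PresentedGroup.toGroup.of _
  have hsurj : Function.Surjective φ := by
    rw [← MonoidHom.range_eq_top, eq_top_iff, ← h.gen, Subgroup.closure_le]
    rintro _ ⟨k, rfl⟩
    exact ⟨_, hφ k⟩
  exact ⟨MulEquiv.ofBijective φ ((Nat.bijective_iff_surjective_and_card φ).2
    ⟨hsurj, le_antisymm hcard (Nat.card_le_card_of_surjective φ hsurj)⟩), hφ⟩

theorem Presents.nonempty_iso [Finite T] (h : Presents rels x) :
    Nonempty (PresentedGroup (↑rels : Set (FreeGroup κ)) ≃* T) := ⟨h.iso.choose⟩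

theorem exists_word (h : Subgroup.closure (Set.range x) = ⊤) (t : T) :
    ∃ w : FreeGroup κ, FreeGroup.lift x w = t := by
  have : t ∈ (FreeGroup.lift x).range := by
    rw [FreeGroup.range_lift_eq_closure, h]; exact Subgroup.mem_top t
  exact this

/-- Any generating family has a presentation with few more relations. -/
theorem Presents.change [DecidableEq κ] (h : Presents rels x) {ν : Type} [Fintype ν] [DecidableEq ν]
    {x' : ν → T} (hx' : Subgroup.closure (Set.range x') = ⊤) :
    ∃ rels' : Finset (FreeGroup ν), rels'.card ≤ rels.card + Fintype.card ν ∧ Presents rels' x' := by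
  classical
  choose u hu using fun k : κ => exists_word hx' (x k)
  choose v hv using fun i : ν => exists_word h.gen (x' i)
  refine ⟨rels.image (FreeGroup.lift u) ∪
    Finset.univ.image (fun i => (FreeGroup.of i)⁻¹ * FreeGroup.lift u (v i)), ?_, hx', ?_, ?_⟩
  · exact (Finset.card_union_le _ _).trans (Nat.add_le_add Finset.card_image_le
      (Finset.card_image_le.trans_eq Finset.card_univ))
  · intro r hr
    have e : (FreeGroup.lift x').comp (FreeGroup.lift u) = FreeGroup.lift x := by
      ext k; simp [hu]
    rcases Finset.mem_union.1 hr with hr | hr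
    · obtain ⟨s, hs, rfl⟩ := Finset.mem_image.1 hr
      exact (DFunLike.congr_fun e s).trans (h.holds s hs)
    · obtain ⟨i, -, rfl⟩ := Finset.mem_image.1 hr
      rw [map_mul, map_inv, FreeGroup.lift_apply_of,
        show FreeGroup.lift x' (FreeGroup.lift u (v i)) = x' i from (DFunLike.congr_fun e _).trans (hv i),
        inv_mul_cancel]
  · intro G _ f hf
    let g : κ → G := fun k => FreeGroup.lift f (u k)
    have e : (FreeGroup.lift f).comp (FreeGroup.lift u) = FreeGroup.lift g := by
      ext k; simp [g]
    obtain ⟨hfin, hcard⟩ := h.bound G g fun r hr =>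
      (DFunLike.congr_fun e r).symm.trans (hf _ (Finset.mem_union_left _ (Finset.mem_image_of_mem _ hr)))
    have hsub : Subgroup.closure (Set.range f) ≤ Subgroup.closure (Set.range g) := by
      rw [Subgroup.closure_le, ← FreeGroup.range_lift_eq_closure]
      rintro _ ⟨i, rfl⟩
      have := hf _ (Finset.mem_union_right _ (Finset.mem_image_of_mem
        (fun i => (FreeGroup.of i)⁻¹ * FreeGroup.lift u (v i)) (Finset.mem_univ i)))
      rw [map_mul, map_inv, FreeGroup.lift_apply_of, inv_mul_eq_one] at this
      exact ⟨v i, ((DFunLike.congr_fun e (v i)).symm).trans this.symm⟩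
    exact ⟨hfin.subset hsub, (Set.ncard_le_ncard hsub hfin).trans hcard⟩

/-- The same, keeping the generator `k₀`. -/
theorem Presents.change_keep [DecidableEq κ] (h : Presents rels x) {ν : Type} [Fintype ν] [DecidableEq ν]
    {x' : ν → T} (hx' : Subgroup.closure (Set.range x') = ⊤) {k₀ : κ} {i₀ : ν} (hk : x k₀ = x' i₀) :
    ∃ rels' : Finset (FreeGroup ν), rels'.card + 1 ≤ rels.card + Fintype.card ν ∧ Presents rels' x' := by
  classical
  choose u₀ hu₀ using fun k : κ => exists_word hx' (x k)
  choose v hv using fun i : ν => exists_word h.gen (x' i)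
  let u : κ → FreeGroup ν := Function.update u₀ k₀ (FreeGroup.of i₀)
  have hu : ∀ k, FreeGroup.lift x' (u k) = x k := fun k => by
    by_cases hk' : k = k₀
    · subst hk'; simp [u, hk]
    · simp [u, hk', hu₀]
  refine ⟨rels.image (FreeGroup.lift u) ∪
    (Finset.univ.erase i₀).image (fun i => (FreeGroup.of i)⁻¹ * FreeGroup.lift u (v i)), ?_, hx', ?_, ?_⟩
  · have h1 := Finset.card_union_le (rels.image (FreeGroup.lift u))
      ((Finset.univ.erase i₀).image (fun i => (FreeGroup.of i)⁻¹ * FreeGroup.lift u (v i)))
    have h2 := Finset.card_image_le (s := rels) (f := FreeGroup.lift u)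
    have h3 := Finset.card_image_le (s := Finset.univ.erase i₀)
      (f := fun i => (FreeGroup.of i)⁻¹ * FreeGroup.lift u (v i))
    have h4 : (Finset.univ.erase i₀).card + 1 = Fintype.card ν := by
      rw [Finset.card_erase_add_one (Finset.mem_univ _), Finset.card_univ]
    omega
  · intro r hr
    have e : (FreeGroup.lift x').comp (FreeGroup.lift u) = FreeGroup.lift x := by
      ext k; simp [hu]
    rcases Finset.mem_union.1 hr with hr | hr
    · obtain ⟨s, hs, rfl⟩ := Finset.mem_image.1 hr
      exact (DFunLike.congr_fun e s).trans (h.holds s hs)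
    · obtain ⟨i, -, rfl⟩ := Finset.mem_image.1 hr
      rw [map_mul, map_inv, FreeGroup.lift_apply_of,
        show FreeGroup.lift x' (FreeGroup.lift u (v i)) = x' i from (DFunLike.congr_fun e _).trans (hv i),
        inv_mul_cancel]
  · intro G _ f hf
    let g : κ → G := fun k => FreeGroup.lift f (u k)
    have e : (FreeGroup.lift f).comp (FreeGroup.lift u) = FreeGroup.lift g := by
      ext k; simp [g]
    obtain ⟨hfin, hcard⟩ := h.bound G g fun r hr =>
      (DFunLike.congr_fun e r).symm.trans (hf _ (Finset.mem_union_left _ (Finset.mem_image_of_mem _ hr)))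
    have hsub : Subgroup.closure (Set.range f) ≤ Subgroup.closure (Set.range g) := by
      rw [Subgroup.closure_le]
      rintro _ ⟨i, rfl⟩
      by_cases hi : i = i₀
      · subst hi
        exact Subgroup.subset_closure ⟨k₀, by simp [g, u]⟩
      rw [← FreeGroup.range_lift_eq_closure]
      have := hf _ (Finset.mem_union_right _ (Finset.mem_image_of_mem
        (fun i => (FreeGroup.of i)⁻¹ * FreeGroup.lift u (v i))
        (Finset.mem_erase.2 ⟨hi, Finset.mem_univ i⟩)))
      rw [map_mul, map_inv, FreeGroup.lift_apply_of, inv_mul_eq_one] at this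
      exact ⟨v i, ((DFunLike.congr_fun e (v i)).symm).trans this.symm⟩
    exact ⟨hfin.subset hsub, (Set.ncard_le_ncard hsub hfin).trans hcard⟩

end CfsgLib.ShortPres
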