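import Cfsg.Agent.Lib.ShortPres.Carmichael
import Cfsg.Agent.Lib.ShortPres.Transfer
import Cfsg.Agent.S2530
import Mathlib.GroupTheory.Perm.Fin
import Mathlib.Tactic.FinCases

/-!
# Two-generator presentations in degree at most six
-/

namespace CfsgLib.ShortPres

open Equiv Equiv.Perm

set_option maxRecDepth 20000

/-- The trivial group. -/
theorem presents_trivial (T : Type) [Group T] [Subsingleton T] [Finite T] :
    ∃ (x : Fin 2 → T) (rels : Finset (FreeGroup (Fin 2))), rels.card ≤ 2 ∧ Presents rels x := by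
  classical
  refine ⟨fun _ => 1, [FreeGroup.of 0, FreeGroup.of 1].toFinset,
    (List.toFinset_card_le _).trans (by simp), Subsingleton.elim _ _, fun r _ => Subsingleton.elim _ _, ?_⟩
  intro G _ f hf
  have : Subgroup.closure (Set.range f) = ⊥ := by
    rw [Subgroup.closure_eq_bot_iff]
    rintro _ ⟨i, rfl⟩
    fin_cases i
    · simpa using hf (FreeGroup.of 0) (by simp)
    · simpa using hf (FreeGroup.of 1) (by simp)
  rw [this]
  exact ⟨by simp, by simp⟩

/-- The `i`-th adjacent transposition as a word. -/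
def sw (i : ℕ) : FreeGroup (Fin 2) := FreeGroup.of 1 ^ i * FreeGroup.of 0 * (FreeGroup.of 1 ^ i)⁻¹

theorem pow_one_of {κ G : Type*} [Group G] {f : κ → G} {r : FreeGroup κ} {k : ℕ}
    (h : FreeGroup.lift f (r ^ k) = 1) : FreeGroup.lift f r ^ k = 1 := (map_pow _ r k).symm.trans h

theorem cube_conj {G : Type*} [Group G] (c : G) {u : G} (h : u ^ 3 = 1) : (c * u * c⁻¹) ^ 3 = 1 := by
  rw [conj_pow, h]; simp

theorem cube_conj_inv {G : Type*} [Group G] (c : G) {u : G} (h : u ^ 3 = 1) :
    (c * u * c⁻¹)⁻¹ ^ 3 = 1 := by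
  rw [inv_pow, cube_conj c h, inv_one]

theorem presents_sym (N : ℕ)
    (h3 : (swap (0 : Fin (N + 2)) 1 * (finRotate (N + 2) * swap 0 1 * (finRotate (N + 2))⁻¹)) ^ 3 = 1)
    (h2 : ∀ j ∈ List.range' 2 (N - 1),
      (swap (0 : Fin (N + 2)) 1 * (finRotate (N + 2) ^ j * swap 0 1 * (finRotate (N + 2) ^ j)⁻¹)) ^ 2 = 1)
    (hprod : ((List.range (N + 1)).map fun i =>
      finRotate (N + 2) ^ i * swap 0 1 * (finRotate (N + 2) ^ i)⁻¹).prod = finRotate (N + 2))
    (hgen : Subgroup.closure {finRotate (N + 2), swap (0 : Fin (N + 2)) 1} = ⊤) :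
    ∃ (x : Fin 2 → Perm (Fin (N + 2))) (rels : Finset (FreeGroup (Fin 2))),
      rels.card ≤ 3 + (N - 1) ∧ Presents rels x := by
  classical
  let x : Fin 2 → Perm (Fin (N + 2)) := ![swap 0 1, finRotate (N + 2)]
  let rels : List (FreeGroup (Fin 2)) :=
    sw 0 ^ 2 :: (sw 0 * sw 1) ^ 3 ::
      ((((List.range (N + 1)).map sw).prod * (FreeGroup.of 1)⁻¹) ::
        (List.range' 2 (N - 1)).map fun j => (sw 0 * sw j) ^ 2)
  refine ⟨x, rels.toFinset, (List.toFinset_card_le _).trans (by simp [rels]; omega), ?_, ?_, ?_⟩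
  · rw [eq_top_iff, ← hgen]
    refine Subgroup.closure_mono ?_
    rintro _ (rfl | rfl)
    · exact ⟨1, rfl⟩
    · exact ⟨0, rfl⟩
  · have hsw : ∀ i, FreeGroup.lift x (sw i) =
        finRotate (N + 2) ^ i * swap 0 1 * (finRotate (N + 2) ^ i)⁻¹ := fun i => by simp [sw, x]
    intro r hr
    simp only [rels, List.mem_toFinset, List.mem_cons, List.mem_map] at hr
    rcases hr with rfl | rfl | rfl | ⟨j, hj, rfl⟩
    · rw [map_pow, hsw]; simp [pow_two]
    · rw [map_pow, map_mul, hsw, hsw]; simpa using h3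
    · rw [map_mul, map_list_prod, List.map_map, map_inv, mul_inv_eq_one,
        show (FreeGroup.lift x) ∘ sw = fun i => finRotate (N + 2) ^ i * swap 0 1 *
          (finRotate (N + 2) ^ i)⁻¹ from funext hsw, hprod]
      simp [x]
    · rw [map_pow, map_mul, hsw, hsw]; simpa using h2 j hj
  · intro G _ f hf
    let s : ℕ → G := fun i => FreeGroup.lift f (sw i)
    have hs : ∀ i, s i = f 1 ^ i * f 0 * (f 1 ^ i)⁻¹ := fun i => by simp [s, sw]
    have hconj : ∀ i j, s (i + j) = f 1 ^ i * s j * (f 1 ^ i)⁻¹ := fun i j => by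
      rw [hs, hs, pow_add]; group
    have e1 := hf _ (List.mem_toFinset.2 (List.mem_cons_self (a := sw 0 ^ 2)))
    have e2 := hf ((sw 0 * sw 1) ^ 3) (List.mem_toFinset.2 (by simp [rels]))
    have e3 := hf (((List.range (N + 1)).map sw).prod * (FreeGroup.of 1)⁻¹)
      (List.mem_toFinset.2 (by simp [rels]))
    have e4 : ∀ j ∈ List.range' 2 (N - 1), (s 0 * s j) ^ 2 = 1 := fun j hj => by
      simpa [s] using pow_one_of (hf ((sw 0 * sw j) ^ 2) (List.mem_toFinset.2 (by
        simp only [rels, List.mem_cons, List.mem_map]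
        exact Or.inr (Or.inr (Or.inr ⟨j, hj, rfl⟩)))))
    have hR : Cfsg.Agent.S2530.Rels s (N + 1) := by
      refine ⟨fun i _ => ?_, fun i _ => ?_, fun i j hij hj => ?_⟩
      · rw [show i = i + 0 from rfl, hconj, conj_mul, ← pow_two,
          show s 0 ^ 2 = 1 from pow_one_of e1]
        simp
      · rw [show s i = s (i + 0) from rfl, hconj i 0, hconj i 1, conj_mul, conj_pow,
          show (s 0 * s 1) ^ 3 = 1 by simpa [s] using pow_one_of e2]
        simp
      · have := e4 (j - i) (by rw [List.mem_range'_1]; omega)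
        rw [show s i = s (i + 0) from rfl, show j = i + (j - i) by omega, hconj i 0, hconj i (j - i),
          conj_mul, conj_pow, this]
        simp
    obtain ⟨hfin, hcard⟩ := Cfsg.Agent.S2530.card_closure_le (N + 1) s hR
    have h1 : f 1 ∈ Subgroup.closure (s '' Set.Iio (N + 1)) := by
      rw [map_mul, map_inv, mul_inv_eq_one, map_list_prod, List.map_map, FreeGroup.lift_apply_of] at e3
      rw [← e3]
      refine Subgroup.list_prod_mem _ fun y hy => ?_
      obtain ⟨i, hi, rfl⟩ := List.mem_map.1 hy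
      exact Subgroup.subset_closure ⟨i, List.mem_range.1 hi, rfl⟩
    have h0 : f 0 ∈ Subgroup.closure (s '' Set.Iio (N + 1)) :=
      Subgroup.subset_closure ⟨0, Nat.succ_pos _, by simp [hs]⟩
    have hsub : Subgroup.closure (Set.range f) ≤ Subgroup.closure (s '' Set.Iio (N + 1)) := by
      rw [Subgroup.closure_le]
      rintro _ ⟨i, rfl⟩
      fin_cases i
      · exact h0
      · exact h1
    refine ⟨hfin.subset hsub, (Set.ncard_le_ncard hsub hfin).trans (hcard.trans_eq ?_)⟩
    rw [Nat.card_perm, Nat.card_fin]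

theorem sym_gen (N : ℕ) : Subgroup.closure {finRotate (N + 2), swap (0 : Fin (N + 2)) 1} = ⊤ := by
  have h := closure_cycle_adjacent_swap (isCycle_finRotate (n := N)) (support_finRotate (n := N))
    (0 : Fin (N + 2))
  simpa [finRotate_succ_apply] using h

/-- Symmetric groups of degree at most six. -/
theorem presents_sym_small {n : ℕ} (hn : n ≤ 6) :
    ∃ (x : Fin 2 → Perm (Fin n)) (rels : Finset (FreeGroup (Fin 2))), rels.card ≤ 6 ∧ Presents rels x := by
  rcases lt_or_ge n 2 with h | h
  · haveI : Subsingleton (Perm (Fin n)) := by interval_cases n <;> infer_instance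
    obtain ⟨x, rels, hc, hP⟩ := presents_trivial (Perm (Fin n))
    exact ⟨x, rels, hc.trans (by omega), hP⟩
  obtain ⟨N, rfl⟩ : ∃ N, n = N + 2 := ⟨n - 2, by omega⟩
  obtain ⟨x, rels, hc, h⟩ : ∃ (x : Fin 2 → Perm (Fin (N + 2))) (rels : Finset (FreeGroup (Fin 2))),
      rels.card ≤ 3 + (N - 1) ∧ Presents rels x := by
    have hN : N ≤ 4 := by omega
    interval_cases N <;> refine presents_sym _ (Equiv.ext (by decide)) ?_ (Equiv.ext (by decide)) (sym_gen _) <;>
      · intro j hj
        rw [List.mem_range'_1] at hj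
        obtain ⟨hj1, hj2⟩ := hj
        interval_cases j <;> exact Equiv.ext (by decide)
  exact ⟨x, rels, hc.trans (by omega), h⟩

/-- Recognition of a small alternating group by Carmichael's relations. -/
theorem presents_alt_carm {n k : ℕ} (hk : k + 2 = n) (a : Perm (Fin n)) (p q : Fin n) (hpq : p ≠ q)
    (e : Fin k → Fin n) (hcover : ∀ z, z ≠ p → z ≠ q → ∃ i, e i = z) (i₀ : Fin k)
    (he : ∀ i, e i ≠ p) (ha : sign a = 1) (v : Fin k → FreeGroup (Fin 2)) (hv0 : v i₀ = FreeGroup.of 1)
    (hv : ∀ i, FreeGroup.lift ![a, cyc3 p q (e i₀)] (v i) = cyc3 p q (e i))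
    (R : List (FreeGroup (Fin 2))) (hR : ∀ r ∈ R, FreeGroup.lift ![a, cyc3 p q (e i₀)] r = 1)
    (hcarm : ∀ (G : Type) [Group G] (f : Fin 2 → G), (∀ r ∈ R, FreeGroup.lift f r = 1) →
      Carm fun i => FreeGroup.lift f (v i)) :
    ∃ (x : Fin 2 → alternatingGroup (Fin n)) (rels : Finset (FreeGroup (Fin 2))),
      rels.card ≤ R.length + 1 ∧ Presents rels x := by
  classical
  haveI : Nontrivial (Fin n) := ⟨⟨p, q, hpq⟩⟩
  have hy : sign (cyc3 p q (e i₀)) = 1 := sign_cyc3 hpq (Ne.symm (he i₀))
  let x : Fin 2 → alternatingGroup (Fin n) :=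
    ![⟨a, mem_alternatingGroup.2 ha⟩, ⟨cyc3 p q (e i₀), mem_alternatingGroup.2 hy⟩]
  have hx : (alternatingGroup (Fin n)).subtype.comp (FreeGroup.lift x) =
      FreeGroup.lift ![a, cyc3 p q (e i₀)] := by
    ext i; fin_cases i <;> simp [x]
  have hgen : ∀ σ : Perm (Fin n), sign σ = 1 →
      σ ∈ Subgroup.closure (Set.range fun i => cyc3 p q (e i)) := by
    intro σ hσ
    refine (Subgroup.closure_le _).2 ?_ (altOn_le_closure (X := Set.univ) (Set.mem_univ p)
      (Set.mem_univ q) hpq (mem_altOn.2 ⟨fun c hc => absurd (Set.mem_univ c) hc, hσ⟩))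
    rintro _ ⟨z, -, hzp, hzq, rfl⟩
    obtain ⟨i, rfl⟩ := hcover z hzp hzq
    exact Subgroup.subset_closure ⟨i, rfl⟩
  obtain ⟨ω, hω⟩ : ∃ ω : FreeGroup (Fin k), FreeGroup.lift (fun i => cyc3 p q (e i)) ω = a := by
    have : a ∈ (FreeGroup.lift fun i => cyc3 p q (e i)).range := by
      rw [FreeGroup.range_lift_eq_closure]; exact hgen a ha
    exact this
  let rA : FreeGroup (Fin 2) := FreeGroup.of 0 * (FreeGroup.lift v ω)⁻¹
  refine ⟨x, (rA :: R).toFinset, List.toFinset_card_le _, ?_, ?_, ?_⟩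
  · rw [eq_top_iff]
    intro σ _
    have h := hgen σ.1 (mem_alternatingGroup.1 σ.2)
    have hle : Subgroup.closure (Set.range fun i => cyc3 p q (e i)) ≤
        (Subgroup.closure (Set.range x)).map (alternatingGroup (Fin n)).subtype := by
      rw [Subgroup.closure_le]
      rintro _ ⟨i, rfl⟩
      refine ⟨FreeGroup.lift x (v i), ?_, (DFunLike.congr_fun hx (v i)).trans (hv i)⟩
      rw [← FreeGroup.range_lift_eq_closure]
      exact ⟨v i, rfl⟩
    obtain ⟨τ, hτ, hτ'⟩ := hle h
    rwa [Subtype.ext (a1 := σ) (a2 := τ) hτ'.symm]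
  · intro r hr
    apply Subtype.ext
    refine (DFunLike.congr_fun hx r).trans ?_
    rcases List.mem_cons.1 (List.mem_toFinset.1 hr) with rfl | hr
    · have e' : (FreeGroup.lift ![a, cyc3 p q (e i₀)]).comp (FreeGroup.lift v) =
          FreeGroup.lift (fun i => cyc3 p q (e i)) := by ext i; simp [hv]
      simp only [rA, map_mul, map_inv]
      rw [show FreeGroup.lift ![a, cyc3 p q (e i₀)] (FreeGroup.lift v ω) = a from
        (DFunLike.congr_fun e' ω).trans hω]
      simp
    · exact hR r hr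
  · intro G _ f hf
    have hc := hcarm G f fun r hr => hf r (List.mem_toFinset.2 (List.mem_cons_of_mem _ hr))
    obtain ⟨hfin, hcard⟩ := hc.card_closure_le Finset.univ
    rw [Finset.coe_univ, Set.image_univ] at hfin hcard
    have hA := hf rA (List.mem_toFinset.2 List.mem_cons_self)
    simp only [rA, map_mul, map_inv, FreeGroup.lift_apply_of, mul_inv_eq_one] at hA
    have hsub : Subgroup.closure (Set.range f) ≤
        Subgroup.closure (Set.range fun i => FreeGroup.lift f (v i)) := by
      rw [Subgroup.closure_le]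
      rintro _ ⟨i, rfl⟩
      fin_cases i
      · show f 0 ∈ _
        rw [hA]
        have e' : (FreeGroup.lift f).comp (FreeGroup.lift v) =
            FreeGroup.lift (fun i => FreeGroup.lift f (v i)) := by ext i; simp
        rw [show FreeGroup.lift f (FreeGroup.lift v ω) = _ from DFunLike.congr_fun e' ω,
          ← FreeGroup.range_lift_eq_closure]
        exact ⟨ω, rfl⟩
      · exact Subgroup.subset_closure ⟨i₀, by simp [hv0]⟩
    refine ⟨hfin.subset hsub, (Set.ncard_le_ncard hsub hfin).trans ?_⟩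
    rw [Finset.card_univ, Fintype.card_fin, hk] at hcard
    have := two_mul_nat_card_alternatingGroup (α := Fin n)
    rw [Nat.card_perm, Nat.card_fin] at this
    omega

theorem pair_symm {G : Type*} [Group G] {u v : G} (h : (u * v) ^ 2 = 1) : (v * u) ^ 2 = 1 := by
  calc (v * u) ^ 2 = u⁻¹ * (u * v) ^ 2 * u := by simp only [pow_two]; group
    _ = 1 := by rw [h]; group

theorem pair_conj {G : Type*} [Group G] (c : G) {u v : G} (h : (u * v) ^ 2 = 1) :
    (c * u * c⁻¹ * (c * v * c⁻¹)) ^ 2 = 1 := by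
  rw [conj_mul, conj_pow, h]; simp

theorem pair_conj_inv {G : Type*} [Group G] (c : G) {u v : G} (h : (u * v) ^ 2 = 1) :
    ((c * u * c⁻¹)⁻¹ * (c * v * c⁻¹)⁻¹) ^ 2 = 1 := by
  rw [← mul_inv_rev, inv_pow, pair_conj c (pair_symm h), inv_one]

/-- Alternating groups of degree at most six. -/
theorem presents_alt_small' {n : ℕ} (hn : n ≤ 6) :
    ∃ (x : Fin 2 → alternatingGroup (Fin n)) (rels : Finset (FreeGroup (Fin 2))),
      rels.card ≤ max 2 (n - 1) ∧ Presents rels x := by
  classical
  rcases lt_or_ge n 3 with h | h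
  · haveI : Subsingleton (alternatingGroup (Fin n)) := by
      rw [← Finite.card_le_one_iff_subsingleton]
      rcases lt_or_ge n 2 with h' | h'
      · haveI : Subsingleton (Perm (Fin n)) := by interval_cases n <;> infer_instance
        exact Finite.card_le_one_iff_subsingleton.2 inferInstance
      · obtain rfl : n = 2 := by omega
        have := two_mul_nat_card_alternatingGroup (α := Fin 2)
        rw [Nat.card_perm, Nat.card_fin, show Nat.factorial 2 = 2 from rfl] at this
        omega
    obtain ⟨x, rels, hc, hP⟩ := presents_trivial (alternatingGroup (Fin n))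
    exact ⟨x, rels, hc.trans (by omega), hP⟩
  let a : FreeGroup (Fin 2) := FreeGroup.of 0
  let y : FreeGroup (Fin 2) := FreeGroup.of 1
  interval_cases n
  · obtain ⟨x, rels, hc, hP⟩ := presents_alt_carm (n := 3) (k := 1) rfl (cyc3 0 1 2) 0 1 (by decide)
      (fun _ => 2) (by decide) 0 (by decide) (sign_cyc3 (by decide) (by decide)) (fun _ => y) rfl
      (fun i => by simp [y]) [y ^ 3]
      (by
        intro r hr
        rw [List.mem_singleton] at hr
        subst hr
        simp only [y, map_pow, FreeGroup.lift_apply_of]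
        exact Equiv.ext (by decide))
      (fun G _ f hf => ⟨fun i => by simpa using pow_one_of (hf (y ^ 3) (by simp)),
        fun i j hij => absurd (Subsingleton.elim i j) hij⟩)
    exact ⟨x, rels, hc.trans (by simp), hP⟩
  · obtain ⟨x, rels, hc, hP⟩ := presents_alt_carm (n := 4) (k := 2) rfl (swap 0 1 * swap 2 3) 0 1
      (by decide) ![2, 3] (by decide) 0 (by decide) (by decide) ![y, (a * y * a⁻¹)⁻¹] rfl
      (fun i => by
        fin_cases i <;> simp [y, a]
        all_goals exact Equiv.ext (by decide))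
      [y ^ 3, (y * (a * y * a⁻¹)⁻¹) ^ 2]
      (by
        intro r hr
        simp only [List.mem_cons, List.not_mem_nil, or_false] at hr
        rcases hr with rfl | rfl <;>
          simp only [y, a, map_pow, map_mul, map_inv, FreeGroup.lift_apply_of] <;>
          exact Equiv.ext (by decide))
      (fun G _ f hf => by
        have h3 : f 1 ^ 3 = 1 := by simpa [y] using pow_one_of (hf (y ^ 3) (by simp))
        have h01 : (f 1 * (f 0 * f 1 * (f 0)⁻¹)⁻¹) ^ 2 = 1 := by
          simpa [y, a] using pow_one_of (hf ((y * (a * y * a⁻¹)⁻¹) ^ 2) (by simp))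
        have h01' := pair_symm h01
        refine ⟨fun i => ?_, fun i j hij => ?_⟩
        · fin_cases i
          · simpa [y] using h3
          · simpa [y, a] using cube_conj_inv (f 0) h3
        · fin_cases i <;> fin_cases j
          · exact absurd rfl hij
          · simpa [y, a] using h01
          · simpa [y, a] using h01'
          · exact absurd rfl hij)
    exact ⟨x, rels, hc.trans (by simp), hP⟩
  · obtain ⟨x, rels, hc, hP⟩ := presents_alt_carm (n := 5) (k := 3) rfl (cyc3 2 3 4) 0 1
      (by decide) ![2, 3, 4] (by decide) 0 (by decide) (sign_cyc3 (by decide) (by decide))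
      ![y, a * y * a⁻¹, a ^ 2 * y * (a ^ 2)⁻¹] rfl
      (fun i => by
        fin_cases i <;> simp [y, a]
        all_goals exact Equiv.ext (by decide))
      [y ^ 3, a ^ 3, (y * (a * y * a⁻¹)) ^ 2]
      (by
        intro r hr
        simp only [List.mem_cons, List.not_mem_nil, or_false] at hr
        rcases hr with rfl | rfl | rfl <;>
          simp only [y, a, map_pow, map_mul, map_inv, FreeGroup.lift_apply_of] <;>
          exact Equiv.ext (by decide))
      (fun G _ f hf => by
        have h3 : f 1 ^ 3 = 1 := by simpa [y] using pow_one_of (hf (y ^ 3) (by simp))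
        have ha : f 0 ^ 3 = 1 := by simpa [a] using pow_one_of (hf (a ^ 3) (by simp))
        have h01 : (f 1 * (f 0 * f 1 * (f 0)⁻¹)) ^ 2 = 1 := by
          simpa [y, a] using pow_one_of (hf ((y * (a * y * a⁻¹)) ^ 2) (by simp))
        have h12 : (f 0 * f 1 * (f 0)⁻¹ * (f 0 ^ 2 * f 1 * (f 0 ^ 2)⁻¹)) ^ 2 = 1 := by
          have := pair_conj (f 0) h01
          rwa [show f 0 * (f 0 * f 1 * (f 0)⁻¹) * (f 0)⁻¹ = f 0 ^ 2 * f 1 * (f 0 ^ 2)⁻¹ by rw [pow_two]; group] at this
        have h20 : (f 0 ^ 2 * f 1 * (f 0 ^ 2)⁻¹ * f 1) ^ 2 = 1 := by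
          have := pair_conj (f 0) h12
          rwa [show f 0 * (f 0 ^ 2 * f 1 * (f 0 ^ 2)⁻¹) * (f 0)⁻¹ = f 0 ^ 3 * f 1 * (f 0 ^ 3)⁻¹ by group,
            show f 0 * (f 0 * f 1 * (f 0)⁻¹) * (f 0)⁻¹ = f 0 ^ 2 * f 1 * (f 0 ^ 2)⁻¹ by rw [pow_two]; group, ha,
            inv_one, mul_one, one_mul] at this
        refine ⟨fun i => ?_, fun i j hij => ?_⟩
        · fin_cases i
          · simpa [y] using h3
          · simpa [y, a] using cube_conj (f 0) h3
          · simpa [y, a] using cube_conj (f 0 ^ 2) h3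
        · fin_cases i <;> fin_cases j
          · exact absurd rfl hij
          · simpa [y, a] using h01
          · simpa [y, a] using pair_symm h20
          · simpa [y, a] using pair_symm h01
          · exact absurd rfl hij
          · simpa [y, a] using h12
          · simpa [y, a] using h20
          · simpa [y, a] using pair_symm h12
          · exact absurd rfl hij)
    exact ⟨x, rels, hc.trans (by simp), hP⟩
  · let z1 : FreeGroup (Fin 2) := (a * y * a⁻¹)⁻¹
    let z2 : FreeGroup (Fin 2) := a ^ 2 * y * (a ^ 2)⁻¹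
    let z3 : FreeGroup (Fin 2) := (a ^ 3 * y * (a ^ 3)⁻¹)⁻¹
    obtain ⟨x, rels, hc, hP⟩ := presents_alt_carm (n := 6) (k := 4) rfl
      (swap 0 1 * (swap 2 3 * swap 3 4 * swap 4 5)) 0 1
      (by decide) ![2, 3, 4, 5] (by decide) 0 (by decide) (by decide) ![y, z1, z2, z3] rfl
      (fun i => by
        fin_cases i <;> simp [y, a, z1, z2, z3]
        all_goals exact Equiv.ext (by decide))
      [y ^ 3, a ^ 4, (y * z1) ^ 2, (y * z2) ^ 2]
      (by
        intro r hr
        simp only [List.mem_cons, List.not_mem_nil, or_false] at hr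
        rcases hr with rfl | rfl | rfl | rfl <;>
          simp only [y, a, z1, z2, map_pow, map_mul, map_inv, FreeGroup.lift_apply_of] <;>
          exact Equiv.ext (by decide))
      (fun G _ f hf => by
        set A := f 0 with hA
        set Y := f 1 with hY
        have h3 : Y ^ 3 = 1 := by simpa [y] using pow_one_of (hf (y ^ 3) (by simp))
        have ha : A ^ 4 = 1 := by simpa [a] using pow_one_of (hf (a ^ 4) (by simp))
        have h01 : (Y * (A * Y * A⁻¹)⁻¹) ^ 2 = 1 := by
          simpa [y, a, z1] using pow_one_of (hf ((y * z1) ^ 2) (by simp))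
        have h02 : (Y * (A ^ 2 * Y * (A ^ 2)⁻¹)) ^ 2 = 1 := by
          simpa [y, a, z2] using pow_one_of (hf ((y * z2) ^ 2) (by simp))
        have h12 : ((A * Y * A⁻¹)⁻¹ * (A ^ 2 * Y * (A ^ 2)⁻¹)) ^ 2 = 1 := by
          have := pair_conj_inv A h01
          rwa [show (A * (A * Y * A⁻¹)⁻¹ * A⁻¹)⁻¹ = A ^ 2 * Y * (A ^ 2)⁻¹ by group] at this
        have h23 : ((A ^ 2 * Y * (A ^ 2)⁻¹) * (A ^ 3 * Y * (A ^ 3)⁻¹)⁻¹) ^ 2 = 1 := by
          have := pair_conj_inv A h12
          rwa [show (A * (A * Y * A⁻¹)⁻¹ * A⁻¹)⁻¹ = A ^ 2 * Y * (A ^ 2)⁻¹ by group,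
            show A * (A ^ 2 * Y * (A ^ 2)⁻¹) * A⁻¹ = A ^ 3 * Y * (A ^ 3)⁻¹ by group] at this
        have h13 : ((A * Y * A⁻¹)⁻¹ * (A ^ 3 * Y * (A ^ 3)⁻¹)⁻¹) ^ 2 = 1 := by
          have := pair_conj_inv A h02
          rwa [show A * (A ^ 2 * Y * (A ^ 2)⁻¹) * A⁻¹ = A ^ 3 * Y * (A ^ 3)⁻¹ by group] at this
        have h30 : ((A ^ 3 * Y * (A ^ 3)⁻¹)⁻¹ * Y) ^ 2 = 1 := by
          have := pair_conj_inv A h23
          rwa [show A * (A ^ 2 * Y * (A ^ 2)⁻¹) * A⁻¹ = A ^ 3 * Y * (A ^ 3)⁻¹ by group,
            show (A * (A ^ 3 * Y * (A ^ 3)⁻¹)⁻¹ * A⁻¹)⁻¹ = A ^ 4 * Y * (A ^ 4)⁻¹ by group, ha,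
            inv_one, mul_one, one_mul] at this
        refine ⟨fun i => ?_, fun i j hij => ?_⟩
        · fin_cases i
          · simpa [y] using h3
          · simpa [y, a, z1] using cube_conj_inv A h3
          · simpa [y, a, z2] using cube_conj (A ^ 2) h3
          · simpa [y, a, z3] using cube_conj_inv (A ^ 3) h3
        · fin_cases i <;> fin_cases j
          · exact absurd rfl hij
          · simpa [y, a, z1] using h01
          · simpa [y, a, z2] using h02
          · simpa [y, a, z3] using pair_symm h30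
          · simpa [y, a, z1] using pair_symm h01
          · exact absurd rfl hij
          · simpa [y, a, z1, z2] using h12
          · simpa [y, a, z1, z3] using h13
          · simpa [y, a, z2] using pair_symm h02
          · simpa [y, a, z1, z2] using pair_symm h12
          · exact absurd rfl hij
          · simpa [y, a, z2, z3] using h23
          · simpa [y, a, z3] using h30
          · simpa [y, a, z1, z3] using pair_symm h13
          · simpa [y, a, z2, z3] using pair_symm h23
          · exact absurd rfl hij)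
    exact ⟨x, rels, hc.trans (by simp), hP⟩

theorem presents_alt_small {n : ℕ} (hn : n ≤ 6) :
    ∃ (x : Fin 2 → alternatingGroup (Fin n)) (rels : Finset (FreeGroup (Fin 2))),
      rels.card ≤ 6 ∧ Presents rels x := by
  obtain ⟨x, rels, hc, hP⟩ := presents_alt_small' hn
  exact ⟨x, rels, hc.trans (by omega), hP⟩

end CfsgLib.ShortPres
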