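import Cfsg.Agent.Lib.ShortPres.Param
import Cfsg.Agent.Lib.ShortPres.Bertrand2
import Cfsg.Agent.Lib.ShortPres.Small

/-!
# Short presentations of symmetric and alternating groups
-/

namespace CfsgLib.ShortPres

open Equiv Equiv.Perm

/-- A group with a short presentation of one of the two kinds. -/
def Short (T : Type) [Group T] : Prop :=
  (∃ (x : Fin 2 → T) (rels : Finset (FreeGroup (Fin 2))), rels.card ≤ 6 ∧ Presents rels x) ∨
  ∃ (x : Fin 3 → T) (rels : Finset (FreeGroup (Fin 3))), rels.card ≤ 7 ∧ Presents rels x ∧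
    Subgroup.closure ({x 0, x 2} : Set T) = ⊤

theorem exists_par {n : ℕ} (hn : 7 ≤ n) : ∃ P : Par, P.n = n := by
  rcases eq_or_lt_of_le hn with rfl | h
  · exact ⟨⟨7, 5, by norm_num, le_rfl, le_rfl, by omega⟩, rfl⟩
  obtain ⟨p, hp, h1, h2⟩ := exists_prime_between (k := n / 2) (by omega)
  exact ⟨⟨n, p, hp, by omega, by omega, by omega⟩, rfl⟩

theorem short_sym_alt (n : ℕ) : Short (Perm (Fin n)) ∧ Short (alternatingGroup (Fin n)) := by
  rcases le_or_gt n 6 with h | h
  · exact ⟨Or.inl (presents_sym_small h), Or.inl (presents_alt_small h)⟩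
  obtain ⟨P, rfl⟩ := exists_par (n := n) h
  obtain ⟨⟨x, rels, h1, h2, h3⟩, h'⟩ := P.presents
  exact ⟨Or.inr ⟨x, rels, h1.trans (by omega), h2, h3⟩, Or.inr h'⟩

variable {T : Type} [Group T] [Finite T]

/-- Adds a trivial generator. -/
theorem Presents.pad {rels : Finset (FreeGroup (Fin 2))} {x : Fin 2 → T} (h : Presents rels x) :
    ∃ rels' : Finset (FreeGroup (Fin 3)), rels'.card ≤ rels.card + 1 ∧
      Presents rels' ![x 0, x 1, 1] := by
  classical
  let i : FreeGroup (Fin 2) →* FreeGroup (Fin 3) := FreeGroup.lift ![FreeGroup.of 0, FreeGroup.of 1]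
  have hi : ∀ {G : Type} [Group G] (f : Fin 3 → G) (r : FreeGroup (Fin 2)),
      FreeGroup.lift f (i r) = FreeGroup.lift ![f 0, f 1] r := by
    intro G _ f r
    have : (FreeGroup.lift f).comp i = FreeGroup.lift ![f 0, f 1] := by
      ext k; fin_cases k <;> simp [i]
    exact DFunLike.congr_fun this r
  refine ⟨insert (FreeGroup.of 2) (rels.image i),
    (Finset.card_insert_le _ _).trans (Nat.add_le_add_right Finset.card_image_le 1), ?_, ?_, ?_⟩
  · rw [eq_top_iff, ← h.gen]
    refine Subgroup.closure_mono ?_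
    rintro _ ⟨k, rfl⟩
    fin_cases k
    · exact ⟨0, rfl⟩
    · exact ⟨1, rfl⟩
  · intro r hr
    rcases Finset.mem_insert.1 hr with rfl | hr
    · simp
    · obtain ⟨s, hs, rfl⟩ := Finset.mem_image.1 hr
      rw [hi]
      have : (![(![x 0, x 1, 1] : Fin 3 → T) 0, (![x 0, x 1, 1] : Fin 3 → T) 1] : Fin 2 → T) = x := by
        funext k; fin_cases k <;> rfl
      rw [this]
      exact h.holds s hs
  · intro G _ f hf
    obtain ⟨hfin, hcard⟩ := h.bound G ![f 0, f 1] fun r hr => by
      rw [← hi]; exact hf _ (Finset.mem_insert_of_mem (Finset.mem_image_of_mem _ hr))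
    have h2 : f 2 = 1 := by simpa using hf _ (Finset.mem_insert_self _ _)
    have hsub : Subgroup.closure (Set.range f) ≤ Subgroup.closure (Set.range ![f 0, f 1]) := by
      rw [Subgroup.closure_le]
      rintro _ ⟨k, rfl⟩
      fin_cases k
      · exact Subgroup.subset_closure ⟨0, rfl⟩
      · exact Subgroup.subset_closure ⟨1, rfl⟩
      · show f 2 ∈ _
        rw [h2]; exact one_mem _
    exact ⟨hfin.subset hsub, (Set.ncard_le_ncard hsub hfin).trans hcard⟩

theorem Short.two (h : Short T) :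
    ∃ rels : Finset (FreeGroup (Fin 2)), rels.card ≤ 8 ∧
      Nonempty (PresentedGroup (↑rels : Set (FreeGroup (Fin 2))) ≃* T) := by
  rcases h with ⟨x, rels, hc, hP⟩ | ⟨x, rels, hc, hP, hgen⟩
  · exact ⟨rels, hc.trans (by omega), hP.nonempty_iso⟩
  · obtain ⟨rels', hc', hP'⟩ := hP.change_keep (x' := ![x 0, x 2])
      (by rw [eq_top_iff, ← hgen]; exact Subgroup.closure_mono (by
            rintro _ (rfl | rfl)
            · exact ⟨0, rfl⟩
            · exact ⟨1, rfl⟩))
      (k₀ := 0) (i₀ := 0) rfl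
    rw [Fintype.card_fin] at hc'
    exact ⟨rels', by omega, hP'.nonempty_iso⟩

theorem Short.three (h : Short T) :
    ∃ rels : Finset (FreeGroup (Fin 3)), rels.card ≤ 7 ∧
      Nonempty (PresentedGroup (↑rels : Set (FreeGroup (Fin 3))) ≃* T) := by
  rcases h with ⟨x, rels, hc, hP⟩ | ⟨x, rels, hc, hP, -⟩
  · obtain ⟨rels', hc', hP'⟩ := hP.pad
    exact ⟨rels', by omega, hP'.nonempty_iso⟩
  · exact ⟨rels, hc, hP.nonempty_iso⟩

theorem Short.pair (h : Short T) (a b : T) (hab : Subgroup.closure ({a, b} : Set T) = ⊤) :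
    ∃ rels : Finset (FreeGroup (Fin 2)), rels.card ≤ 9 ∧
      ∃ e : PresentedGroup (↑rels : Set (FreeGroup (Fin 2))) ≃* T,
        e (PresentedGroup.of 0) = a ∧ e (PresentedGroup.of 1) = b := by
  have hx' : Subgroup.closure (Set.range ![a, b]) = ⊤ := by
    rw [eq_top_iff, ← hab]
    exact Subgroup.closure_mono (by
      rintro _ (rfl | rfl)
      · exact ⟨0, rfl⟩
      · exact ⟨1, rfl⟩)
  rcases h with ⟨x, rels, hc, hP⟩ | ⟨x, rels, hc, hP, -⟩
  all_goals
    obtain ⟨rels', hc', hP'⟩ := hP.change hx'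
    rw [Fintype.card_fin] at hc'
    obtain ⟨e, he⟩ := hP'.iso
    exact ⟨rels', by omega, e, he 0, he 1⟩

end CfsgLib.ShortPres
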