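import Cfsg.Agent.Lib.ShortPres.Transfer
import Mathlib.Algebra.Group.Subgroup.ZPowers.Lemmas
import Mathlib.Algebra.Group.Subgroup.Finite
import Mathlib.GroupTheory.Index

/-!
# More ways to transport presentations
-/

namespace CfsgLib.ShortPres

variable {T : Type} [Group T] {κ : Type} {rels : Finset (FreeGroup κ)} {x : κ → T}

/-- A presentation from an isomorphism. -/
theorem Presents.of_iso [Finite T] (e : PresentedGroup (↑rels : Set (FreeGroup κ)) ≃* T)
    (he : ∀ k, e (PresentedGroup.of k) = x k) : Presents rels x := by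
  haveI : Finite (PresentedGroup (↑rels : Set (FreeGroup κ))) := Finite.of_equiv T e.symm.toEquiv
  have hx : x = e ∘ PresentedGroup.of (rels := (↑rels : Set (FreeGroup κ))) := funext fun k => (he k).symm
  refine ⟨?_, ?_, ?_⟩
  · rw [hx, Set.range_comp]
    show Subgroup.closure (e.toMonoidHom '' _) = ⊤
    rw [← MonoidHom.map_closure, PresentedGroup.closure_range_of]
    exact Subgroup.map_top_of_surjective _ e.surjective
  · intro r hr
    have e1 : FreeGroup.lift x = e.toMonoidHom.comp (PresentedGroup.mk (↑rels : Set (FreeGroup κ))) := by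
      ext k
      simp only [FreeGroup.lift_apply_of, MonoidHom.comp_apply]
      exact (he k).symm
    rw [e1, MonoidHom.comp_apply, PresentedGroup.one_of_mem (Finset.mem_coe.2 hr), map_one]
  · intro G _ f hf
    let ψ := PresentedGroup.toGroup (rels := (↑rels : Set (FreeGroup κ))) (f := f) (fun r hr => hf r hr)
    have hsub : Subgroup.closure (Set.range f) ≤ ψ.range := by
      rw [Subgroup.closure_le]
      rintro _ ⟨k, rfl⟩
      exact ⟨_, PresentedGroup.toGroup.of _⟩
    haveI : Finite ψ.range := Finite.of_surjective ψ.rangeRestrict ψ.rangeRestrict_surjective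
    refine ⟨(Set.toFinite ((ψ.range : Subgroup G) : Set G)).subset hsub,
      (Set.ncard_le_ncard hsub (Set.toFinite _)).trans ?_⟩
    rw [← Nat.card_coe_set_eq]
    refine le_trans ?_ (Nat.card_congr e.toEquiv).le
    exact Nat.card_le_card_of_surjective ψ.rangeRestrict ψ.rangeRestrict_surjective

/-- The universal property. -/
theorem Presents.exists_hom [Finite T] (h : Presents rels x) {G : Type} [Group G] (f : κ → G)
    (hf : ∀ r ∈ rels, FreeGroup.lift f r = 1) : ∃ ψ : T →* G, ∀ k, ψ (x k) = f k := by
  obtain ⟨e, he⟩ := h.iso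
  let ψ := PresentedGroup.toGroup (rels := (↑rels : Set (FreeGroup κ))) (f := f) (fun r hr => hf r hr)
  refine ⟨ψ.comp e.symm.toMonoidHom, fun k => ?_⟩
  show ψ (e.symm (x k)) = f k
  rw [← he k, MulEquiv.symm_apply_apply]
  exact PresentedGroup.toGroup.of _

/-- One more relation presents a quotient by a cyclic subgroup. -/
theorem Presents.quot [Finite T] [DecidableEq κ] (h : Presents rels x) {T' : Type} [Group T'] (π : T →* T')
    (hπ : Function.Surjective π) (z : T) (hz : π.ker = Subgroup.zpowers z) :
    ∃ rels' : Finset (FreeGroup κ), rels'.card ≤ rels.card + 1 ∧ Presents rels' (π ∘ x) := by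
  classical
  haveI : Finite T' := Finite.of_surjective π hπ
  obtain ⟨wz, hwz⟩ := exists_word h.gen z
  have hcomp : FreeGroup.lift (π ∘ x) = π.comp (FreeGroup.lift x) := by ext k; simp
  refine ⟨insert wz rels, Finset.card_insert_le _ _, ?_, ?_, ?_⟩
  · rw [Set.range_comp, ← MonoidHom.map_closure, h.gen]
    exact Subgroup.map_top_of_surjective _ hπ
  · intro r hr
    rw [hcomp, MonoidHom.comp_apply]
    rcases Finset.mem_insert.1 hr with rfl | hr
    · rw [hwz, ← MonoidHom.mem_ker, hz]; exact Subgroup.mem_zpowers z
    · rw [h.holds r hr, map_one]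
  · intro G _ f hf
    obtain ⟨ψ, hψ⟩ := h.exists_hom f fun r hr => hf r (Finset.mem_insert_of_mem hr)
    have hψz : ψ z = 1 := by
      have e : ψ.comp (FreeGroup.lift x) = FreeGroup.lift f := by ext k; simp [hψ]
      rw [← hwz, ← MonoidHom.comp_apply, e]
      exact hf _ (Finset.mem_insert_self _ _)
    have hker : π.ker ≤ ψ.ker := by rw [hz, Subgroup.zpowers_le]; exact hψz
    let χ : T' →* G := π.liftOfSurjective hπ ⟨ψ, hker⟩
    have hχ : ∀ t, χ (π t) = ψ t := fun t => MonoidHom.liftOfRightInverse_comp_apply _ _ _ _ t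
    have hsub : Subgroup.closure (Set.range f) ≤ χ.range := by
      rw [Subgroup.closure_le]
      rintro _ ⟨k, rfl⟩
      exact ⟨π (x k), (hχ _).trans (hψ k)⟩
    haveI : Finite χ.range := Finite.of_surjective χ.rangeRestrict χ.rangeRestrict_surjective
    refine ⟨(Set.toFinite ((χ.range : Subgroup G) : Set G)).subset hsub,
      (Set.ncard_le_ncard hsub (Set.toFinite _)).trans ?_⟩
    rw [← Nat.card_coe_set_eq]
    exact Nat.card_le_card_of_surjective χ.rangeRestrict χ.rangeRestrict_surjective

/-- Superfluous generators. -/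
theorem Presents.extend [Fintype κ] {ν : Type} [Fintype ν] (h : Presents rels x) (ι : κ → ν)
    (hι : Function.Injective ι) :
    ∃ (x' : ν → T) (rels' : Finset (FreeGroup ν)),
      rels'.card + Fintype.card κ ≤ rels.card + Fintype.card ν ∧ Presents rels' x' := by
  classical
  let x' : ν → T := Function.extend ι x 1
  have hx' : ∀ k, x' (ι k) = x k := fun k => hι.extend_apply x 1 k
  have hout : ∀ i, i ∉ Set.range ι → x' i = 1 := fun i hi => by
    show Function.extend ι x 1 i = 1
    rw [Function.extend_apply' _ _ _ (by simpa using hi)]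
    rfl
  let O : Finset ν := Finset.univ.filter fun i => i ∉ Set.range ι
  refine ⟨x', rels.image (FreeGroup.map ι) ∪ O.image FreeGroup.of, ?_, ?_, ?_, ?_⟩
  · have h1 := Finset.card_union_le (rels.image (FreeGroup.map ι)) (O.image FreeGroup.of)
    have h2 := Finset.card_image_le (s := rels) (f := FreeGroup.map ι)
    have h3 := Finset.card_image_le (s := O) (f := FreeGroup.of)
    have h4 : O.card + Fintype.card κ = Fintype.card ν := by
      have e : O = (Finset.univ.image ι)ᶜ := by ext i; simp [O]
      rw [e, Finset.card_compl, Finset.card_image_of_injective _ hι, Finset.card_univ]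
      have := Fintype.card_le_of_injective ι hι
      omega
    omega
  · rw [eq_top_iff, ← h.gen]
    exact Subgroup.closure_mono (by rintro _ ⟨k, rfl⟩; exact ⟨ι k, hx' k⟩)
  · intro r hr
    rcases Finset.mem_union.1 hr with hr | hr
    · obtain ⟨s, hs, rfl⟩ := Finset.mem_image.1 hr
      have e : (FreeGroup.lift x').comp (FreeGroup.map ι) = FreeGroup.lift x := by ext k; simp [hx']
      exact (DFunLike.congr_fun e s).trans (h.holds s hs)
    · obtain ⟨i, hi, rfl⟩ := Finset.mem_image.1 hr
      rw [FreeGroup.lift_apply_of, hout i (Finset.mem_filter.1 hi).2]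
  · intro G _ f hf
    obtain ⟨hfin, hcard⟩ := h.bound G (f ∘ ι) fun r hr => by
      have e : (FreeGroup.lift f).comp (FreeGroup.map ι) = FreeGroup.lift (f ∘ ι) := by ext k; simp
      rw [← e]
      exact hf _ (Finset.mem_union_left _ (Finset.mem_image_of_mem _ hr))
    have hsub : Subgroup.closure (Set.range f) ≤ Subgroup.closure (Set.range (f ∘ ι)) := by
      rw [Subgroup.closure_le]
      rintro _ ⟨i, rfl⟩
      by_cases hi : i ∈ Set.range ι
      · obtain ⟨k, rfl⟩ := hi
        exact Subgroup.subset_closure ⟨k, rfl⟩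
      · have := hf (FreeGroup.of i) (Finset.mem_union_right _ (Finset.mem_image_of_mem _
          (Finset.mem_filter.2 ⟨Finset.mem_univ i, hi⟩)))
        rw [FreeGroup.lift_apply_of] at this
        rw [this]; exact one_mem _
    exact ⟨hfin.subset hsub, (Set.ncard_le_ncard hsub hfin).trans hcard⟩

end CfsgLib.ShortPres
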