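import Mathlib.GroupTheory.Perm.Sign
import Mathlib.GroupTheory.Perm.Support
import Mathlib.GroupTheory.SpecificGroups.Alternating

/-!
# Even permutations supported in a set, and their generation by three-cycles through two base points
-/

namespace CfsgLib.ShortPres

open Equiv Equiv.Perm

variable {α : Type*} [DecidableEq α] [Fintype α]

/-- The three-cycle `a ↦ b ↦ x ↦ a`. -/
def cyc3 (a b x : α) : Perm α := swap a x * swap a b

theorem cyc3_a {a b x : α} (hab : a ≠ b) (hxb : x ≠ b) : cyc3 a b x a = b := by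
  simp [cyc3, swap_apply_of_ne_of_ne hab.symm hxb.symm]

theorem cyc3_b {a b x : α} : cyc3 a b x b = x := by simp [cyc3]

theorem cyc3_x {a b x : α} (hax : a ≠ x) (hxb : x ≠ b) : cyc3 a b x x = a := by
  simp [cyc3, swap_apply_of_ne_of_ne hax.symm hxb]

theorem cyc3_of_ne {a b x c : α} (h1 : c ≠ a) (h2 : c ≠ b) (h3 : c ≠ x) : cyc3 a b x c = c := by
  simp [cyc3, swap_apply_of_ne_of_ne h1 h2, swap_apply_of_ne_of_ne h1 h3]

theorem sign_cyc3 {a b x : α} (hab : a ≠ b) (hax : a ≠ x) : sign (cyc3 a b x) = 1 := by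
  simp [cyc3, sign_swap hab, sign_swap hax]

theorem conj_cyc3 (σ : Perm α) (a b x : α) : σ * cyc3 a b x * σ⁻¹ = cyc3 (σ a) (σ b) (σ x) := by
  simp only [cyc3]
  rw [show σ * (swap a x * swap a b) * σ⁻¹ = (σ * swap a x * σ⁻¹) * (σ * swap a b * σ⁻¹) by group,
    ← swap_apply_apply, ← swap_apply_apply]

theorem cyc3_inv (a b x : α) : (cyc3 a b x)⁻¹ = swap a b * swap a x := by
  simp [cyc3]

/-- The inverse of a three-cycle exchanges the first two points. -/
theorem cyc3_swap {a b x : α} (hab : a ≠ b) (hax : a ≠ x) (hbx : b ≠ x) :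
    cyc3 b a x = (cyc3 a b x)⁻¹ := by
  rw [eq_inv_iff_mul_eq_one]
  ext c
  simp only [Perm.mul_apply, Perm.one_apply]
  by_cases h1 : c = a
  · subst h1; rw [cyc3_a hab hbx.symm, cyc3_a hab.symm hax.symm]
  by_cases h2 : c = b
  · subst h2; rw [cyc3_b, cyc3_x hbx hax.symm]
  by_cases h3 : c = x
  · subst h3; rw [cyc3_x hax hbx.symm, cyc3_b]
  rw [cyc3_of_ne h1 h2 h3, cyc3_of_ne h2 h1 h3]

/-- The permutations supported in `X`. -/
def permOn (X : Set α) : Subgroup (Perm α) where
  carrier := {σ | ∀ c, c ∉ X → σ c = c}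
  one_mem' := by simp
  mul_mem' := by
    intro s t hs ht c hc
    rw [Perm.mul_apply, ht c hc, hs c hc]
  inv_mem' := by
    intro s hs c hc
    rw [Perm.inv_eq_iff_eq, hs c hc]

/-- The even permutations supported in `X`. -/
def altOn (X : Set α) : Subgroup (Perm α) := permOn X ⊓ alternatingGroup α

theorem mem_altOn {X : Set α} {σ : Perm α} :
    σ ∈ altOn X ↔ (∀ c, c ∉ X → σ c = c) ∧ sign σ = 1 := by
  simp only [altOn, Subgroup.mem_inf, mem_alternatingGroup]
  rfl

theorem altOn_mono {X Y : Set α} (h : X ⊆ Y) : altOn X ≤ altOn Y := fun σ hσ => by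
  rw [mem_altOn] at hσ ⊢
  exact ⟨fun c hc => hσ.1 c fun hc' => hc (h hc'), hσ.2⟩

theorem cyc3_mem_altOn {X : Set α} {a b x : α} (ha : a ∈ X) (hb : b ∈ X) (hx : x ∈ X)
    (hab : a ≠ b) (hax : a ≠ x) : cyc3 a b x ∈ altOn X := by
  refine mem_altOn.2 ⟨fun c hc => ?_, sign_cyc3 hab hax⟩
  exact cyc3_of_ne (fun e => hc (e ▸ ha)) (fun e => hc (e ▸ hb)) (fun e => hc (e ▸ hx))

theorem conj_mem_altOn {X : Set α} {σ τ : Perm α} (h : τ ∈ altOn X) :
    σ * τ * σ⁻¹ ∈ altOn (σ '' X) := by
  rw [mem_altOn] at h ⊢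
  refine ⟨fun c hc => ?_, by simp [h.2, mul_comm]⟩
  have : σ⁻¹ c ∉ X := fun hh => hc ⟨σ⁻¹ c, hh, by simp⟩
  rw [Perm.mul_apply, Perm.mul_apply, h.1 _ this]
  simp

/-- A permutation supported in `X` preserves `X`. -/
theorem altOn_apply_mem {X : Set α} {σ : Perm α} (h : σ ∈ altOn X) {c : α} (hc : c ∈ X) :
    σ c ∈ X := by
  by_contra hh
  have := (mem_altOn.1 h).1 _ hh
  have : σ c = c := σ.injective this
  exact hh (this.symm ▸ hc)

theorem altOn_commute {X Y : Set α} (hXY : Disjoint X Y) {σ τ : Perm α} (hσ : σ ∈ altOn X)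
    (hτ : τ ∈ altOn Y) : σ * τ = τ * σ := by
  refine Perm.Disjoint.commute ?_
  intro c
  by_cases hc : c ∈ X
  · exact Or.inr ((mem_altOn.1 hτ).1 c (Set.disjoint_left.1 hXY hc))
  · exact Or.inl ((mem_altOn.1 hσ).1 c hc)

/-- Star transpositions generate. -/
theorem permOn_le_closure_star {X : Set α} {a : α} (ha : a ∈ X) :
    permOn X ≤ Subgroup.closure {σ | ∃ x ∈ X, σ = swap a x} := by
  intro σ hσ
  set H := Subgroup.closure {σ | ∃ x ∈ X, σ = swap a x}
  have hsw : ∀ u ∈ X, ∀ v ∈ X, swap u v ∈ H := by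
    intro u hu v hv
    have hau : swap a u ∈ H := Subgroup.subset_closure ⟨u, hu, rfl⟩
    have hav : swap a v ∈ H := Subgroup.subset_closure ⟨v, hv, rfl⟩
    by_cases huv : u = v
    · subst huv; rw [swap_self]; exact one_mem H
    by_cases hu' : u = a
    · subst hu'; exact hav
    by_cases hv' : v = a
    · subst hv'; rw [swap_comm]; exact hau
    have := H.mul_mem (H.mul_mem hau hav) (H.inv_mem hau)
    rwa [← swap_apply_apply, swap_apply_left, swap_apply_of_ne_of_ne hv' (Ne.symm huv)] at this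
  suffices ∀ n, ∀ τ : Perm α, τ.support.card ≤ n → τ ∈ permOn X → τ ∈ H from this _ σ le_rfl hσ
  intro n
  induction n with
  | zero =>
    intro τ hτ _
    rw [Nat.le_zero, Finset.card_eq_zero, support_eq_empty_iff] at hτ
    rw [hτ]; exact one_mem H
  | succ n ih =>
    intro τ hτ hτX
    by_cases h1 : τ = 1
    · rw [h1]; exact one_mem H
    obtain ⟨c, hc⟩ := Finset.nonempty_of_ne_empty (mt support_eq_empty_iff.1 h1)
    rw [mem_support] at hc
    have hcX : c ∈ X := by by_contra h; exact hc (hτX c h)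
    have hτc : τ c ∈ X := by
      by_contra h
      exact hc (τ.injective (hτX _ h))
    have hs : swap c (τ c) ∈ permOn X := fun d hd =>
      swap_apply_of_ne_of_ne (fun e => hd (e ▸ hcX)) (fun e => hd (e ▸ hτc))
    have hmem : swap c (τ c) * τ ∈ H := by
      refine ih _ ?_ ((permOn X).mul_mem hs hτX)
      have := card_support_swap_mul (f := τ) (x := c) hc
      omega
    have := H.mul_mem (hsw c hcX (τ c) hτc) hmem
    rwa [← mul_assoc, swap_mul_self, one_mul] at this

/-- The three-cycles through two base points generate. -/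
theorem altOn_le_closure {X : Set α} {a b : α} (ha : a ∈ X) (hb : b ∈ X) (hab : a ≠ b) :
    altOn X ≤ Subgroup.closure {σ | ∃ x ∈ X, x ≠ a ∧ x ≠ b ∧ σ = cyc3 a b x} := by
  intro σ hσ
  set K := Subgroup.closure {σ | ∃ x ∈ X, x ≠ a ∧ x ≠ b ∧ σ = cyc3 a b x}
  have hstar : ∀ x ∈ X, x ≠ a → swap a x * swap a b ∈ K ∧ swap a b * swap a x ∈ K := by
    intro x hx hxa
    by_cases hxb : x = b
    · subst hxb; simp [one_mem K]
    have h : cyc3 a b x ∈ K := Subgroup.subset_closure ⟨x, hx, hxa, hxb, rfl⟩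
    exact ⟨h, by simpa [cyc3_inv] using K.inv_mem h⟩
  rw [mem_altOn] at hσ
  obtain ⟨hσX, hsign⟩ := hσ
  have hS := permOn_le_closure_star ha hσX
  -- every element of the star closure is a product of stars
  have hlist : ∃ l : List (Perm α), (∀ s ∈ l, ∃ x ∈ X, x ≠ a ∧ s = swap a x) ∧ l.prod = σ := by
    clear hsign hσX
    induction hS using Subgroup.closure_induction with
    | mem s hs =>
      obtain ⟨x, hx, rfl⟩ := hs
      by_cases hxa : x = a
      · exact ⟨[], by simp, by simp [hxa, swap_self]; rfl⟩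
      · exact ⟨[swap a x], by simpa using ⟨x, hx, hxa, rfl⟩, by simp⟩
    | one => exact ⟨[], by simp, rfl⟩
    | mul s t hs ht h1 h2 =>
      obtain ⟨l, hl, rfl⟩ := h1
      obtain ⟨m, hm, rfl⟩ := h2
      exact ⟨l ++ m, fun u hu => (List.mem_append.1 hu).elim (hl u) (hm u), List.prod_append⟩
    | inv s hs h =>
      obtain ⟨l, hl, rfl⟩ := h
      refine ⟨l.reverse, fun u hu => hl u (List.mem_reverse.1 hu), ?_⟩
      rw [List.prod_inv_reverse]
      congr 2
      refine (List.map_congr_left fun u hu => ?_).trans (List.map_id _) |>.symm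
      obtain ⟨x, -, -, rfl⟩ := hl u hu
      simp
  obtain ⟨l, hl, rfl⟩ := hlist
  have key : ∀ n, ∀ m : List (Perm α), m.length = 2 * n → (∀ s ∈ m, ∃ x ∈ X, x ≠ a ∧ s = swap a x) →
      m.prod ∈ K := by
    intro n
    induction n with
    | zero => intro m hm _; rw [List.length_eq_zero_iff.1 hm]; exact one_mem K
    | succ n ih =>
      intro m hm hmem
      match m, hm with
      | u :: v :: m', hm =>
        obtain ⟨x, hx, hxa, rfl⟩ := hmem u (by simp)
        obtain ⟨z, hz, hza, rfl⟩ := hmem v (by simp)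
        rw [List.prod_cons, List.prod_cons, ← mul_assoc]
        refine K.mul_mem ?_ (ih m' (by simp at hm; omega) fun s hs => hmem s (by simp [hs]))
        have := K.mul_mem (hstar x hx hxa).1 (hstar z hz hza).2
        simpa [mul_assoc] using this
  have hlen : sign l.prod = (-1) ^ l.length := sign_prod_list_swap fun g hg => by
    obtain ⟨x, -, hxa, rfl⟩ := hl g hg
    exact ⟨a, x, Ne.symm hxa, rfl⟩
  rw [hsign] at hlen
  obtain ⟨n, hn⟩ | ⟨n, hn⟩ := Nat.even_or_odd l.length
  · exact key n l (by omega) hl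
  · rw [hn, pow_succ, pow_mul, Int.units_sq, one_pow, one_mul] at hlen
    exact absurd hlen (by decide)

end CfsgLib.ShortPres
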