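import Cfsg.Agent.Lib.ShortPres.Relations
import Mathlib.GroupTheory.SpecificGroups.Alternating

/-!
# Six relations for a symmetric group, seven for an alternating group
-/

namespace CfsgLib.ShortPres

open Equiv Equiv.Perm
open Base (img)

variable {p : ℕ} [Fact p.Prime] {α : Type} [DecidableEq α] [Fintype α]

/-- The intersection of the two copies. -/
def Base.S (B : Base p α) (γ : Perm α) : Set α := {x | x ∈ B.A ∧ γ x ∈ B.A}

/-- The permutations behind all the relations. -/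
structure Full (B : Base p α) where
  γ : Perm α
  W : Perm α
  c : Perm α
  d : α
  data : GlueData B.A γ B.a B.b d W
  fix0 : γ (B.e 0) = B.e 0
  c_mem : c ∈ altOn (B.S γ)
  c_gen : altOn (B.S γ) ≤ Subgroup.closure {τ | ∃ i : ℕ, τ = c ^ i * B.c 0 * (c ^ i)⁻¹}
  P_gen : altOn (B.A \ {B.a, B.b}) ≤ Subgroup.closure
    {τ | ∃ i : ℕ, ∃ σ ∈ altOn (B.S γ \ {B.a, B.b}), τ = B.a0 ^ i * σ * (B.a0 ^ i)⁻¹}

namespace Base

variable {B : Base p α}

theorem map_word {G : Type*} [Group G] {f : Perm α → G} (hf : OnHom B.A f) {v : ZMod p → G}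
    (hv : ∀ i, f (B.c i) = v i) (u : FreeGroup (ZMod p)) :
    FreeGroup.lift B.c u ∈ altOn B.A ∧ f (FreeGroup.lift B.c u) = FreeGroup.lift v u := by
  induction u using FreeGroup.induction_on with
  | C1 => simp [hf.one, one_mem]
  | of i => simpa using ⟨B.c_mem i, hv i⟩
  | inv_of i _ => simpa [hf.inv (B.c_mem i), hv i] using B.c_mem i
  | mul u w hu hw =>
    rw [map_mul, map_mul]
    exact ⟨mul_mem hu.1 hw.1, by rw [hf.mul _ hu.1 _ hw.1, hu.2, hw.2]⟩

end Base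

/-- The first generator. -/
def gA : FreeGroup (Fin 3) := FreeGroup.of 0
/-- The second generator. -/
def gB : FreeGroup (Fin 3) := FreeGroup.of 1
/-- The third generator. -/
def gW : FreeGroup (Fin 3) := FreeGroup.of 2

namespace Full

variable {B : Base p α} (F : Full B)

/-- The word of an element of the first copy. -/
noncomputable def word (σ : Perm α) : FreeGroup (Fin 3) :=
  FreeGroup.lift (img (p := p) gA gW) (B.u σ)

theorem lift_word {G : Type*} [Group G] (x : Fin 3 → G) (σ : Perm α) :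
    FreeGroup.lift x (word (B := B) σ) = FreeGroup.lift (img (x 0) (x 2)) (B.u σ) := by
  have : (FreeGroup.lift x).comp (FreeGroup.lift (img (p := p) gA gW)) =
      FreeGroup.lift (img (x 0) (x 2)) := by
    ext i; simp [img, zp, gA, gW]
  exact DFunLike.congr_fun this _

/-- The third permutation. -/
def w0 : Perm α := F.γ * B.c 0

theorem gamma_mul : F.γ * F.γ = 1 := F.data.inv

theorem comm_c0 : Commute F.γ (B.c 0) := by
  have := conj_gamma_cyc3 F.data.inv B.a B.b (B.e 0)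
  rw [F.data.fixa, F.data.fixb, F.fix0] at this
  show F.γ * B.c 0 = B.c 0 * F.γ
  calc F.γ * B.c 0 = F.γ * B.c 0 * (F.γ * F.γ) := by rw [F.gamma_mul, mul_one]
    _ = B.c 0 * F.γ := by rw [← mul_assoc, show F.γ * B.c 0 * F.γ = B.c 0 from this]

theorem c_pow_three (i : ZMod p) : B.c i ^ 3 = 1 :=
  (carm_cyc3 B.he B.hab B.hea B.heb).1 i

theorem w0_sq : (F.w0 ^ 2)⁻¹ = B.c 0 := by
  rw [w0, F.comm_c0.mul_pow, pow_two F.γ, F.gamma_mul, one_mul, inv_eq_iff_mul_eq_one, ← pow_succ]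
  exact c_pow_three 0

theorem w0_cube : F.w0 ^ 3 = F.γ := by
  rw [w0, F.comm_c0.mul_pow, c_pow_three, mul_one, pow_succ, pow_two, F.gamma_mul, one_mul]

/-- The generators. -/
def gens : Fin 3 → Perm α := ![B.a0, B.b0, F.w0]

theorem lift_word_gens {σ : Perm α} (h : σ ∈ altOn B.A) : FreeGroup.lift F.gens (word (B := B) σ) = σ := by
  rw [lift_word]
  have : (img (p := p) (F.gens 0) (F.gens 2)) = B.c := by
    funext i
    have e : (F.gens 2 ^ 2)⁻¹ = B.c 0 := F.w0_sq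
    rw [img, e]
    show B.a0 ^ i.val * B.c 0 * (B.a0 ^ i.val)⁻¹ = B.c i
    rw [B.conj_a0_pow, zero_add, ZMod.natCast_zmod_val]
  rw [this, B.lift_u h]

/-- The word of the image of the second copy of `W`. -/
noncomputable def wordW : FreeGroup (Fin 3) :=
  gW ^ 3 * word (B := B) (F.γ * F.W * F.γ) * gW ^ 3

/-- The six relations. -/
noncomputable def rels6 : List (FreeGroup (Fin 3)) :=
  [gB * gA ^ B.k * gB⁻¹ * (gA * (gA ^ B.k)⁻¹)⁻¹,
    gW ^ 6 * (gA ^ p)⁻¹,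
    gB * (gW ^ 2)⁻¹ * gB⁻¹ * (((gW ^ 2)⁻¹)⁻¹)⁻¹,
    ((gW ^ 2)⁻¹ * (gA * (gW ^ 2)⁻¹ * gA⁻¹)) ^ 2,
    gW ^ 3 * word (B := B) F.c * gW ^ 3 *
      (word (B := B) (F.γ * F.c * F.γ) * (gA * (word (B := B) B.a0)⁻¹))⁻¹,
    F.wordW * gA * F.wordW⁻¹ * (gA * (gB * (word (B := B) B.b0)⁻¹))⁻¹]

theorem S_sub : B.S F.γ ⊆ B.A := fun _ h => h.1

theorem a_memS : B.a ∈ B.S F.γ := ⟨B.a_mem, by rw [F.data.fixa]; exact B.a_mem⟩
theorem b_memS : B.b ∈ B.S F.γ := ⟨B.b_mem, by rw [F.data.fixb]; exact B.b_mem⟩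

theorem gamma_c_mem : F.γ * F.c * F.γ ∈ altOn (B.S F.γ) := by
  refine altOn_mono ?_ (conj_gamma_mem F.data.inv F.c_mem)
  rintro x ⟨h1, h2⟩
  rw [← Perm.mul_apply, F.gamma_mul, Perm.one_apply] at h2
  exact ⟨h2, h1⟩

theorem gammaW_mem : F.γ * F.W * F.γ ∈ altOn B.A := by
  refine altOn_mono ?_ (conj_gamma_mem F.data.inv F.data.hW)
  rintro x (hx | hx | hx)
  · have h := hx.1
    rwa [← Perm.mul_apply, F.gamma_mul, Perm.one_apply] at h
  · have : x = B.a := F.γ.injective (hx.trans F.data.fixa.symm)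
    rw [this]; exact B.a_mem
  · have : x = B.b := F.γ.injective ((Set.mem_singleton_iff.1 hx).trans F.data.fixb.symm)
    rw [this]; exact B.b_mem

theorem W_comm_a0 : F.W * B.a0 = B.a0 * F.W := by
  have h : B.a0 ∈ altOn (Set.range B.e) := by
    refine mem_altOn.2 ⟨fun x hx => ?_, (mem_altOn.1 B.ha0).2⟩
    by_cases h1 : x = B.a
    · rw [h1]; exact B.a0a
    by_cases h2 : x = B.b
    · rw [h2]; exact B.a0b
    exact (mem_altOn.1 B.ha0).1 x (by rintro (h | h | h) <;> [exact h1 h; exact h2 h; exact hx h])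
  refine altOn_commute ?_ F.data.hW h
  rw [Set.disjoint_left]
  rintro x hx ⟨i, rfl⟩
  rcases hx with hx | hx | hx
  · exact hx.2 (B.e_mem i)
  · exact B.hea i hx
  · exact B.heb i hx

theorem holds6 : ∀ r ∈ F.rels6, FreeGroup.lift F.gens r = 1 := by
  have e0 : FreeGroup.lift F.gens gA = B.a0 := by simp [gA, gens]
  have e1 : FreeGroup.lift F.gens gB = B.b0 := by simp [gB, gens]
  have e2 : FreeGroup.lift F.gens gW = F.w0 := by simp [gW, gens]
  have hSA := altOn_mono F.S_sub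
  intro r hr
  simp only [rels6, List.mem_cons, List.not_mem_nil, or_false] at hr
  rcases hr with rfl | rfl | rfl | rfl | rfl | rfl
  · simp only [map_mul, map_inv, map_pow, e0, e1]
    rw [B.rel2, mul_inv_cancel]
  · simp only [map_mul, map_inv, map_pow, e0, e2]
    rw [show 6 = 3 * 2 from rfl, pow_mul, F.w0_cube, pow_two, F.gamma_mul, B.a0_pow_p, inv_one,
      mul_one]
  · simp only [map_mul, map_inv, map_pow, e1, e2]
    rw [F.w0_sq, B.conj_b0, mul_zero, inv_inv, inv_mul_cancel]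
  · simp only [map_mul, map_inv, map_pow, e0, e2]
    rw [F.w0_sq, B.conj_a0, zero_add]
    exact (carm_cyc3 B.he B.hab B.hea B.heb).2 0 1 zero_ne_one
  · simp only [map_mul, map_inv, map_pow, e0, e2]
    rw [F.w0_cube, F.lift_word_gens (hSA F.c_mem), F.lift_word_gens (hSA F.gamma_c_mem),
      F.lift_word_gens B.ha0, mul_inv_cancel, mul_one, mul_inv_cancel]
  · simp only [wordW, map_mul, map_inv, map_pow, e0, e1, e2]
    rw [F.w0_cube, F.lift_word_gens F.gammaW_mem, F.lift_word_gens B.hb0, mul_inv_cancel, mul_one,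
      show F.γ * (F.γ * F.W * F.γ) * F.γ = (F.γ * F.γ) * F.W * (F.γ * F.γ) by group,
      F.gamma_mul, one_mul, mul_one, F.W_comm_a0, mul_inv_cancel_right, mul_inv_cancel]

/-- In every group with the six relations the first two generators lie in a small subgroup
normalised by the involution. -/
theorem exists_R {G : Type*} [Group G] (x : Fin 3 → G)
    (h : ∀ r ∈ F.rels6, FreeGroup.lift x r = 1) :
    ∃ R : Subgroup G, (R : Set G).Finite ∧
      (R : Set G).ncard ≤ Nat.card (alternatingGroup α) ∧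
      x 0 ∈ R ∧ x 1 ∈ R ∧ (x 2 ^ 2)⁻¹ ∈ R ∧ (x 2 ^ 3) * (x 2 ^ 3) = 1 ∧
      ∀ r ∈ R, x 2 ^ 3 * r * x 2 ^ 3 ∈ R := by
  simp only [rels6, List.mem_cons, List.not_mem_nil, or_false, forall_eq_or_imp, forall_eq] at h
  obtain ⟨h2, h3, h4, h5, h6, h7⟩ := h
  simp only [wordW, map_mul, map_inv, map_pow, gA, gB, gW, FreeGroup.lift_apply_of, mul_inv_eq_one]
    at h2 h3 h4 h5 h6 h7
  have hR : B.Rels (x 0) (x 1) (x 2) := ⟨h2, h3, h4, h5⟩
  obtain ⟨f, hf, hc, hka, hkb⟩ := hR.exists_f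
  have hw : ∀ σ ∈ altOn B.A, FreeGroup.lift x (word (B := B) σ) = f σ := by
    intro σ hσ
    rw [lift_word, ← ((B.map_word hf hc) _).2, B.lift_u hσ]
  have hSA : altOn (B.S F.γ) ≤ altOn B.A := altOn_mono F.S_sub
  rw [hw _ (hSA F.c_mem), hw _ (hSA F.gamma_c_mem), hw _ B.ha0] at h6
  rw [hw _ F.gammaW_mem, hw _ B.hb0] at h7
  set g := x 2 ^ 3 with hg_def
  set ka := x 0 * (f B.a0)⁻¹ with hka_def
  set kb := x 1 * (f B.b0)⁻¹ with hkb_def
  have hg : g * g = 1 := by rw [hg_def, ← pow_add]; exact hR.z6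
  have hgi : g⁻¹ = g := inv_eq_of_mul_eq_one_right hg
  have hy : f (B.c 0) = (x 2 ^ 2)⁻¹ := by rw [hc]; simp [img, zp]
  have hgy : g * f (B.c 0) * g = f (B.c 0) := by
    rw [hy]
    calc g * (x 2 ^ 2)⁻¹ * g = (x 2 ^ 2)⁻¹ * (g * g) := by rw [hg_def]; group
      _ = (x 2 ^ 2)⁻¹ := by rw [hg, mul_one]
  -- agreement on the intersection
  have hconj : ∀ u v : G, g * (u * v) * g = (g * u * g) * (g * v * g) := fun u v => by
    simp only [mul_assoc]; rw [← mul_assoc g g, hg, one_mul]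
  have hγconj : ∀ u v : Perm α, F.γ * (u * v) * F.γ = (F.γ * u * F.γ) * (F.γ * v * F.γ) := fun u v => by
    simp only [mul_assoc]; rw [← mul_assoc F.γ F.γ, F.gamma_mul, one_mul]
  have hγS : ∀ σ ∈ altOn (B.S F.γ), F.γ * σ * F.γ ∈ altOn (B.S F.γ) := by
    intro σ hσ
    refine altOn_mono ?_ (conj_gamma_mem F.data.inv hσ)
    rintro u ⟨h1, h2⟩
    rw [← Perm.mul_apply, F.gamma_mul, Perm.one_apply] at h2
    exact ⟨h2, h1⟩
  let K : Subgroup (Perm α) :=
    { carrier := {σ | σ ∈ altOn B.A ∧ F.γ * σ * F.γ ∈ altOn B.A ∧ g * f (F.γ * σ * F.γ) * g = f σ}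
      one_mem' := ⟨one_mem _, by rw [mul_one, F.gamma_mul]; exact one_mem _,
        by rw [mul_one, F.gamma_mul, hf.one, mul_one, hg]⟩
      mul_mem' := by
        rintro s t ⟨h1, h2, h3⟩ ⟨h4, h5, h6⟩
        refine ⟨mul_mem h1 h4, by rw [hγconj]; exact mul_mem h2 h5, ?_⟩
        rw [hγconj, hf.mul _ h2 _ h5, hconj, h3, h6, hf.mul _ h1 _ h4]
      inv_mem' := by
        rintro s ⟨h1, h2, h3⟩
        have e : F.γ * s⁻¹ * F.γ = (F.γ * s * F.γ)⁻¹ := by
          rw [mul_inv_rev, mul_inv_rev, inv_eq_of_mul_eq_one_right F.gamma_mul, mul_assoc]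
        refine ⟨inv_mem h1, by rw [e]; exact inv_mem h2, ?_⟩
        rw [e, hf.inv h2, hf.inv h1, ← h3, mul_inv_rev, mul_inv_rev, hgi, mul_assoc] }
  have hK : altOn (B.S F.γ) ≤ K := by
    refine F.c_gen.trans ((Subgroup.closure_le K).2 ?_)
    rintro _ ⟨i, rfl⟩
    have hc0S : B.c 0 ∈ altOn (B.S F.γ) :=
      cyc3_mem_altOn F.a_memS F.b_memS ⟨B.e_mem 0, by rw [F.fix0]; exact B.e_mem 0⟩ B.hab
        (Ne.symm (B.hea 0))
    have hcA := hSA F.c_mem
    have hdA := hSA F.gamma_c_mem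
    have hpow : ∀ i : ℕ, g * f (F.c ^ i) * g = f ((F.γ * F.c * F.γ) ^ i) * ka ^ i := by
      intro i
      induction i with
      | zero => simp [hf.one, hg]
      | succ i ih =>
        rw [pow_succ, hf.mul _ (pow_mem hcA i) _ hcA, hconj, ih, h6, pow_succ,
          hf.mul _ (pow_mem hdA i) _ hdA, pow_succ]
        calc f ((F.γ * F.c * F.γ) ^ i) * ka ^ i * (f (F.γ * F.c * F.γ) * ka)
            = f ((F.γ * F.c * F.γ) ^ i) * (ka ^ i * f (F.γ * F.c * F.γ)) * ka := by group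
          _ = _ := by rw [((hka _ hdA).pow_left i).eq]; group
    have hpowγ : ∀ i : ℕ, F.γ * F.c ^ i * F.γ = (F.γ * F.c * F.γ) ^ i := by
      intro i
      induction i with
      | zero => simp [F.gamma_mul]
      | succ i ih => rw [pow_succ, hγconj, ih, ← pow_succ]
    have e : F.γ * (F.c ^ i * B.c 0 * (F.c ^ i)⁻¹) * F.γ =
        (F.γ * F.c * F.γ) ^ i * B.c 0 * ((F.γ * F.c * F.γ) ^ i)⁻¹ := by
      rw [hγconj, hγconj, hpowγ, show F.γ * B.c 0 * F.γ = B.c 0 by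
        rw [F.comm_c0.eq, mul_assoc, F.gamma_mul, mul_one]]
      congr 1
      rw [← hpowγ, mul_inv_rev, mul_inv_rev, inv_eq_of_mul_eq_one_right F.gamma_mul, mul_assoc]
    have m1 : F.c ^ i * B.c 0 * (F.c ^ i)⁻¹ ∈ altOn B.A :=
      mul_mem (mul_mem (pow_mem hcA i) (B.c_mem 0)) (inv_mem (pow_mem hcA i))
    have m2 : F.γ * (F.c ^ i * B.c 0 * (F.c ^ i)⁻¹) * F.γ ∈ altOn B.A := by
      rw [e]; exact mul_mem (mul_mem (pow_mem hdA i) (B.c_mem 0)) (inv_mem (pow_mem hdA i))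
    refine ⟨m1, m2, ?_⟩
    have : g * f (F.c ^ i * B.c 0 * (F.c ^ i)⁻¹) * g =
        f (F.γ * (F.c ^ i * B.c 0 * (F.c ^ i)⁻¹) * F.γ) := by
      rw [e, hf.conj (pow_mem hcA i) (B.c_mem 0), hf.conj (pow_mem hdA i) (B.c_mem 0), hconj, hconj,
        hpow, hgy, show g * (f (F.c ^ i))⁻¹ * g = (g * f (F.c ^ i) * g)⁻¹ by
          rw [mul_inv_rev, mul_inv_rev, hgi, mul_assoc], hpow]
      have := ((hka _ (B.c_mem 0)).pow_left i).eq
      calc _ = f ((F.γ * F.c * F.γ) ^ i) * (ka ^ i * f (B.c 0)) * (ka ^ i)⁻¹ *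
            (f ((F.γ * F.c * F.γ) ^ i))⁻¹ := by group
        _ = _ := by rw [this]; group
    rw [← this, ← mul_assoc, ← mul_assoc, hg, one_mul, mul_assoc, hg, mul_one]
  have agree : ∀ σ ∈ altOn (B.S F.γ), copy f F.γ g σ = f σ := fun σ hσ => (hK hσ).2.2
  -- the cross relation
  set W' := g * f (F.γ * F.W * F.γ) * g with hW'
  have cross : ∀ σ ∈ altOn (B.A \ {B.a, B.b}), f σ * copy f F.γ g F.W = copy f F.γ g F.W * f σ := by
    let H : Subgroup (Perm α) := hf.comap (Subgroup.centralizer {W'})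
    suffices hH : altOn (B.A \ {B.a, B.b}) ≤ H by
      intro σ hσ
      exact Subgroup.mem_centralizer_singleton_iff.1 (hH hσ).2
    have hS : altOn (B.S F.γ \ {B.a, B.b}) ≤ H := by
      intro σ hσ
      have hσS : σ ∈ altOn (B.S F.γ) := altOn_mono Set.sdiff_subset hσ
      refine ⟨hSA hσS, Subgroup.mem_centralizer_singleton_iff.2 ?_⟩
      have hcomm : σ * F.W = F.W * σ := by
        refine altOn_commute ?_ hσ F.data.hW
        rw [Set.disjoint_left]
        rintro u hu (h | h)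
        · exact h.2 hu.1.1
        · exact hu.2 h
      have e := agree σ hσS
      simp only [copy] at e
      rw [← e, hW', ← hconj, ← hconj, ← hf.mul _ (hSA (hγS σ hσS)) _ F.gammaW_mem,
        ← hf.mul _ F.gammaW_mem _ (hSA (hγS σ hσS)), ← hγconj, ← hγconj, hcomm]
    have hstep : ∀ σ, σ ∈ H → B.a0 * σ * B.a0⁻¹ ∈ H := by
      rintro σ ⟨h1, h2⟩
      refine ⟨mul_mem (mul_mem B.ha0 h1) (inv_mem B.ha0), Subgroup.mem_centralizer_singleton_iff.2 ?_⟩
      have h2' := Subgroup.mem_centralizer_singleton_iff.1 h2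
      have m : B.a0 * σ * B.a0⁻¹ ∈ altOn B.A := mul_mem (mul_mem B.ha0 h1) (inv_mem B.ha0)
      have e : f (B.a0 * σ * B.a0⁻¹) = x 0 * f σ * (x 0)⁻¹ := by
        have hcomm := (hka _ m).eq
        calc f (B.a0 * σ * B.a0⁻¹) = ka * f (B.a0 * σ * B.a0⁻¹) * ka⁻¹ := by
              rw [hcomm, mul_inv_cancel_right]
          _ = x 0 * f σ * (x 0)⁻¹ := by rw [hf.conj B.ha0 h1, hka_def]; group
      rw [e]
      have hkσ := (hkb _ h1).eq
      have hkey : W' * (x 0 * f σ * (x 0)⁻¹) * W'⁻¹ = x 0 * f σ * (x 0)⁻¹ := by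
        calc W' * (x 0 * f σ * (x 0)⁻¹) * W'⁻¹
            = (W' * x 0 * W'⁻¹) * (W' * f σ * W'⁻¹) * (W' * x 0 * W'⁻¹)⁻¹ := by group
          _ = x 0 * (kb * f σ) * kb⁻¹ * (x 0)⁻¹ := by
              rw [h7, ← h2', mul_inv_cancel_right]; group
          _ = x 0 * f σ * (x 0)⁻¹ := by rw [hkσ]; group
      conv_lhs => rw [← hkey]
      group
    refine F.P_gen.trans ((Subgroup.closure_le H).2 ?_)
    rintro _ ⟨i, σ, hσ, rfl⟩
    induction i with
    | zero => simpa using hS hσ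
    | succ i ih =>
      rw [pow_succ', show B.a0 * B.a0 ^ i * σ * (B.a0 * B.a0 ^ i)⁻¹ =
        B.a0 * (B.a0 ^ i * σ * (B.a0 ^ i)⁻¹) * B.a0⁻¹ by group]
      exact hstep _ ih
  obtain ⟨R, hfin, hcard, hRA, hnorm⟩ := F.data.glue hf hg agree cross
  have hkaR : ka ∈ R := by
    have e : ka = (f (F.γ * F.c * F.γ))⁻¹ * (g * f F.c * g) := by rw [h6]; group
    rw [e]
    exact mul_mem (inv_mem (hRA _ (hSA F.gamma_c_mem))) (hnorm _ (hRA _ (hSA F.c_mem)))
  have hx0 : x 0 ∈ R := by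
    rw [show x 0 = ka * f B.a0 by rw [hka_def, inv_mul_cancel_right]]
    exact mul_mem hkaR (hRA _ B.ha0)
  have hkbR : kb ∈ R := by
    have e : kb = (x 0)⁻¹ * (W' * x 0 * W'⁻¹) := by rw [h7]; group
    have hW'R : W' ∈ R := hnorm _ (hRA _ F.gammaW_mem)
    rw [e]
    exact mul_mem (inv_mem hx0) (mul_mem (mul_mem hW'R hx0) (inv_mem hW'R))
  have hx1 : x 1 ∈ R := by
    rw [show x 1 = kb * f B.b0 by rw [hkb_def, inv_mul_cancel_right]]
    exact mul_mem hkbR (hRA _ B.hb0)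
  exact ⟨R, hfin, hcard, hx0, hx1, hy ▸ hRA _ (B.c_mem 0), hg, hnorm⟩

theorem range_sub {G : Type*} [Group G] {x : Fin 3 → G} {H : Subgroup G} (h0 : x 0 ∈ H)
    (h1 : x 1 ∈ H) (h2 : x 2 ^ 3 ∈ H) (h3 : (x 2 ^ 2)⁻¹ ∈ H) :
    Subgroup.closure (Set.range x) ≤ H := by
  rw [Subgroup.closure_le]
  rintro _ ⟨i, rfl⟩
  match i with
  | 0 => exact h0
  | 1 => exact h1
  | 2 =>
    rw [show x 2 = x 2 ^ 3 * (x 2 ^ 2)⁻¹ by group]
    exact mul_mem h2 h3

/-- Everything even lies in the group generated by the first and third permutations. -/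
theorem alt_le {H : Subgroup (Perm α)} (h0 : B.a0 ∈ H) (h3 : B.c 0 ∈ H)
    (h0' : F.γ * B.a0 * F.γ ∈ H) : alternatingGroup α ≤ H := by
  intro σ hσ
  have : σ ∈ altOn (Set.univ : Set α) :=
    mem_altOn.2 ⟨fun c hc => absurd (Set.mem_univ c) hc, mem_alternatingGroup.1 hσ⟩
  refine (Subgroup.closure_le H).2 ?_ (altOn_le_closure (Set.mem_univ B.a) (Set.mem_univ B.b) B.hab this)
  rintro _ ⟨x, -, hxa, hxb, rfl⟩
  have hA : ∀ i, B.c i ∈ H := by
    intro i
    rw [← ZMod.natCast_zmod_val i, ← zero_add ((i.val : ℕ) : ZMod p), ← B.conj_a0_pow]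
    exact mul_mem (mul_mem (pow_mem h0 _) h3) (inv_mem (pow_mem h0 _))
  have cases : ∀ y ∈ B.A, y ≠ B.a → y ≠ B.b → ∃ i, y = B.e i := by
    rintro y (h | h | ⟨i, hi⟩) ha hb
    · exact absurd h ha
    · exact absurd h hb
    · exact ⟨i, hi.symm⟩
  rcases F.data.cover x with hx | hx
  · obtain ⟨i, rfl⟩ := cases x hx hxa hxb
    exact hA i
  · obtain ⟨i, hi⟩ := cases _ hx (fun e => hxa (by
      rw [← Perm.one_apply (α := α) x, ← F.gamma_mul, Perm.mul_apply, e, F.data.fixa]))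
      (fun e => hxb (by rw [← Perm.one_apply (α := α) x, ← F.gamma_mul, Perm.mul_apply, e, F.data.fixb]))
    have e : cyc3 B.a B.b x = (F.γ * B.a0 * F.γ) ^ i.val * B.c 0 * ((F.γ * B.a0 * F.γ) ^ i.val)⁻¹ := by
      have hγi : F.γ⁻¹ = F.γ := inv_eq_of_mul_eq_one_right F.gamma_mul
      have hp : (F.γ * B.a0 * F.γ) ^ i.val = F.γ * B.a0 ^ i.val * F.γ := by
        nth_rw 2 [← hγi]
        rw [conj_pow, hγi]
      rw [hp]
      calc cyc3 B.a B.b x = F.γ * B.c i * F.γ := by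
            rw [Base.c, conj_gamma_cyc3 F.data.inv, F.data.fixa, F.data.fixb, ← hi,
              ← Perm.mul_apply, F.gamma_mul, Perm.one_apply]
        _ = F.γ * (B.a0 ^ i.val * B.c 0 * (B.a0 ^ i.val)⁻¹) * F.γ := by
            rw [B.conj_a0_pow, zero_add, ZMod.natCast_zmod_val]
        _ = _ := by
            rw [mul_inv_rev, mul_inv_rev, hγi]
            calc F.γ * (B.a0 ^ i.val * B.c 0 * (B.a0 ^ i.val)⁻¹) * F.γ
                = F.γ * B.a0 ^ i.val * (B.c 0 * (F.γ * F.γ)) * (B.a0 ^ i.val)⁻¹ * F.γ := by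
                  rw [F.gamma_mul, mul_one]; group
              _ = _ := by rw [← mul_assoc (B.c 0), ← F.comm_c0.eq]; group
    rw [e]
    exact mul_mem (mul_mem (pow_mem h0' _) h3) (inv_mem (pow_mem h0' _))

theorem alt_le_closure {H : Subgroup (Perm α)} (h0 : B.a0 ∈ H) (h2 : F.w0 ∈ H) :
    alternatingGroup α ≤ H := by
  have hγ : F.γ ∈ H := F.w0_cube ▸ pow_mem h2 3
  exact F.alt_le h0 (F.w0_sq ▸ inv_mem (pow_mem h2 2)) (mul_mem (mul_mem hγ h0) hγ)

end Full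

end CfsgLib.ShortPres
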