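import Cfsg.Agent.Lib.ShortPres.Full

/-!
# The presentations
-/

namespace CfsgLib.ShortPres

open Equiv Equiv.Perm

variable {p : ℕ} [Fact p.Prime] {α : Type} [DecidableEq α] [Fintype α] {B : Base p α}

theorem Full.gens_even (F : Full B) : sign (F.gens 0) = 1 ∧ sign (F.gens 1) = 1 ∧
    sign (F.gens 2) = sign F.γ := by
  refine ⟨(mem_altOn.1 B.ha0).2, (mem_altOn.1 B.hb0).2, ?_⟩
  show sign (F.γ * B.c 0) = _
  rw [map_mul, (mem_altOn.1 (B.c_mem 0)).2, mul_one]

theorem Full.presents_perm (F : Full B) (hsign : sign F.γ = -1) :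
    ∃ rels : Finset (FreeGroup (Fin 3)), rels.card ≤ 6 ∧ Presents rels F.gens ∧
      Subgroup.closure ({F.gens 0, F.gens 2} : Set (Perm α)) = ⊤ := by
  classical
  haveI : Nontrivial α := ⟨⟨B.a, B.b, B.hab⟩⟩
  have htop : Subgroup.closure ({F.gens 0, F.gens 2} : Set (Perm α)) = ⊤ := by
    set H := Subgroup.closure ({F.gens 0, F.gens 2} : Set (Perm α))
    have h0 : B.a0 ∈ H := Subgroup.subset_closure (Or.inl rfl)
    have h2 : F.w0 ∈ H := Subgroup.subset_closure (Or.inr rfl)
    have hγ : F.γ ∈ H := F.w0_cube ▸ pow_mem h2 3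
    have halt := F.alt_le_closure h0 h2
    rw [eq_top_iff]
    intro σ _
    rcases Int.units_eq_one_or (sign σ) with h | h
    · exact halt (mem_alternatingGroup.2 h)
    · have : F.γ * σ ∈ H := halt (mem_alternatingGroup.2 (by rw [map_mul, hsign, h]; decide))
      have := mul_mem hγ this
      rwa [← mul_assoc, F.gamma_mul, one_mul] at this
  refine ⟨F.rels6.toFinset, List.toFinset_card_le _, ⟨?_, ?_, ?_⟩, htop⟩
  · rw [eq_top_iff, ← htop]
    exact Subgroup.closure_mono (by rintro _ (rfl | rfl) <;> exact ⟨_, rfl⟩)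
  · exact fun r hr => F.holds6 r (List.mem_toFinset.1 hr)
  · intro G _ f hf
    obtain ⟨R, hfin, hcard, h0, h1, h2, hg, hnorm⟩ :=
      F.exists_R f fun r hr => hf r (List.mem_toFinset.2 hr)
    obtain ⟨hfin', hcard'⟩ := closure_insert_le hg hfin hnorm
    set Q := Subgroup.closure (insert (f 2 ^ 3) (R : Set G))
    have hRQ : R ≤ Q := fun r hr => Subgroup.subset_closure (Or.inr hr)
    have hsub : Subgroup.closure (Set.range f) ≤ Q :=
      Full.range_sub (hRQ h0) (hRQ h1) (Subgroup.subset_closure (Or.inl rfl)) (hRQ h2)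
    refine ⟨hfin'.subset hsub, (Set.ncard_le_ncard hsub hfin').trans (hcard'.trans ?_)⟩
    rw [← two_mul_nat_card_alternatingGroup (α := α)]
    exact Nat.mul_le_mul le_rfl hcard

theorem Full.presents_alt (F : Full B) (hsign : sign F.γ = 1) :
    ∃ (x : Fin 3 → alternatingGroup α) (rels : Finset (FreeGroup (Fin 3))), rels.card ≤ 7 ∧
      Presents rels x ∧ Subgroup.closure ({x 0, x 2} : Set (alternatingGroup α)) = ⊤ := by
  classical
  obtain ⟨e0, e1, e2⟩ := F.gens_even
  have hmem : ∀ i, F.gens i ∈ alternatingGroup α := fun i => mem_alternatingGroup.2 (match i with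
    | 0 => e0
    | 1 => e1
    | 2 => e2.trans hsign)
  let x : Fin 3 → alternatingGroup α := fun i => ⟨F.gens i, hmem i⟩
  have hx : (alternatingGroup α).subtype.comp (FreeGroup.lift x) = FreeGroup.lift F.gens := by
    ext i; simp [x]
  have htop : Subgroup.closure ({x 0, x 2} : Set (alternatingGroup α)) = ⊤ := by
    set H := Subgroup.closure ({x 0, x 2} : Set (alternatingGroup α))
    have h0 : B.a0 ∈ H.map (alternatingGroup α).subtype :=
      ⟨x 0, Subgroup.subset_closure (Or.inl rfl), rfl⟩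
    have h2 : F.w0 ∈ H.map (alternatingGroup α).subtype :=
      ⟨x 2, Subgroup.subset_closure (Or.inr rfl), rfl⟩
    rw [eq_top_iff]
    intro σ _
    obtain ⟨τ, hτ, hτ'⟩ := F.alt_le_closure h0 h2 σ.2
    rwa [Subtype.ext (a1 := σ) (a2 := τ) hτ'.symm]
  -- the involution as a word in the first copy and its conjugate
  let gwords : Fin 4 → FreeGroup (Fin 3) :=
    ![gA, (gW ^ 2)⁻¹, gW ^ 3 * gA * gW ^ 3, gW ^ 3 * (gW ^ 2)⁻¹ * gW ^ 3]
  have hperm : ∀ i, FreeGroup.lift F.gens (gwords i) =
      (![B.a0, B.c 0, F.γ * B.a0 * F.γ, F.γ * B.c 0 * F.γ] : Fin 4 → Perm α) i := by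
    intro i
    fin_cases i <;> simp [gwords, gA, gW, Full.gens, ← F.w0_sq, ← F.w0_cube]
  obtain ⟨ω, hω⟩ : ∃ ω : FreeGroup (Fin 4), FreeGroup.lift (fun i => FreeGroup.lift F.gens (gwords i)) ω = F.γ := by
    have : F.γ ∈ (FreeGroup.lift (fun i => FreeGroup.lift F.gens (gwords i))).range := by
      rw [FreeGroup.range_lift_eq_closure]
      refine F.alt_le ?_ ?_ ?_ (mem_alternatingGroup.2 hsign)
      · exact Subgroup.subset_closure ⟨0, hperm 0⟩
      · exact Subgroup.subset_closure ⟨1, hperm 1⟩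
      · exact Subgroup.subset_closure ⟨2, hperm 2⟩
    exact this
  let r7 : FreeGroup (Fin 3) := gW ^ 3 * (FreeGroup.lift gwords ω)⁻¹
  refine ⟨x, (r7 :: F.rels6).toFinset, List.toFinset_card_le _, ⟨?_, ?_, ?_⟩, htop⟩
  · rw [eq_top_iff, ← htop]
    exact Subgroup.closure_mono (by rintro _ (rfl | rfl) <;> exact ⟨_, rfl⟩)
  · intro r hr
    apply Subtype.ext
    refine (DFunLike.congr_fun hx r).trans ?_
    rcases List.mem_cons.1 (List.mem_toFinset.1 hr) with rfl | hr
    · have e : (FreeGroup.lift F.gens).comp (FreeGroup.lift gwords) =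
          FreeGroup.lift (fun i => FreeGroup.lift F.gens (gwords i)) := by ext i; simp
      simp only [r7, map_mul, map_inv, map_pow]
      rw [show FreeGroup.lift F.gens (FreeGroup.lift gwords ω) = F.γ from
        (DFunLike.congr_fun e ω).trans hω]
      show FreeGroup.lift F.gens gW ^ 3 * F.γ⁻¹ = ((1 : alternatingGroup α) : Perm α)
      rw [show FreeGroup.lift F.gens gW = F.w0 by simp [gW, Full.gens], F.w0_cube, mul_inv_cancel]
      rfl
    · exact F.holds6 r hr
  · intro G _ f hf
    obtain ⟨R, hfin, hcard, h0, h1, h2, hg, hnorm⟩ :=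
      F.exists_R f fun r hr => hf r (List.mem_toFinset.2 (List.mem_cons_of_mem _ hr))
    have h7 := hf r7 (List.mem_toFinset.2 List.mem_cons_self)
    rw [map_mul, map_inv, map_pow, mul_inv_eq_one] at h7
    have hgR : f 2 ^ 3 ∈ R := by
      have e : FreeGroup.lift f gW = f 2 := by simp [gW]
      rw [← e, h7]
      have hw : ∀ i, FreeGroup.lift f (gwords i) ∈ R := by
        intro i
        fin_cases i
        · simpa [gwords, gA] using h0
        · simpa [gwords, gW] using h2
        · simpa [gwords, gA, gW] using hnorm _ h0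
        · simpa [gwords, gW] using hnorm _ h2
      have e' : (FreeGroup.lift f).comp (FreeGroup.lift gwords) =
          FreeGroup.lift (fun i => FreeGroup.lift f (gwords i)) := by ext i; simp
      rw [show FreeGroup.lift f (FreeGroup.lift gwords ω) = _ from DFunLike.congr_fun e' ω]
      have : (FreeGroup.lift (fun i => FreeGroup.lift f (gwords i))).range ≤ R := by
        rw [FreeGroup.range_lift_eq_closure, Subgroup.closure_le]
        rintro _ ⟨i, rfl⟩
        exact hw i
      exact this ⟨ω, rfl⟩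
    have hsub : Subgroup.closure (Set.range f) ≤ R := Full.range_sub h0 h1 hgR h2
    exact ⟨hfin.subset hsub, (Set.ncard_le_ncard hsub hfin).trans hcard⟩

end CfsgLib.ShortPres
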