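import Cfsg.Agent.Lib.ShortPres.Carmichael

/-!
# Gluing two copies of an alternating group along their intersection
-/

namespace CfsgLib.ShortPres

open Equiv Equiv.Perm

variable {α : Type*} [DecidableEq α] [Fintype α] {G : Type*} [Group G]

/-- A homomorphism from `altOn A` as a function on all permutations. -/
structure OnHom (A : Set α) (f : Perm α → G) : Prop where
  mul : ∀ σ ∈ altOn A, ∀ τ ∈ altOn A, f (σ * τ) = f σ * f τ

namespace OnHom

variable {A : Set α} {f : Perm α → G} (hf : OnHom A f)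
include hf

theorem one : f 1 = 1 := by
  have := hf.mul 1 (one_mem _) 1 (one_mem _)
  rw [mul_one] at this
  exact (left_eq_mul.1 this)

theorem inv {σ : Perm α} (hσ : σ ∈ altOn A) : f σ⁻¹ = (f σ)⁻¹ := by
  rw [eq_inv_iff_mul_eq_one, ← hf.mul _ ((altOn A).inv_mem hσ) _ hσ, inv_mul_cancel, hf.one]

theorem conj {σ τ : Perm α} (hσ : σ ∈ altOn A) (hτ : τ ∈ altOn A) :
    f (σ * τ * σ⁻¹) = f σ * f τ * (f σ)⁻¹ := by
  rw [hf.mul _ ((altOn A).mul_mem hσ hτ) _ ((altOn A).inv_mem hσ), hf.mul _ hσ _ hτ, hf.inv hσ]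

theorem pow {σ : Perm α} (hσ : σ ∈ altOn A) (i : ℕ) : f (σ ^ i) = f σ ^ i := by
  induction i with
  | zero => simp [hf.one]
  | succ i ih => rw [pow_succ, pow_succ, hf.mul _ ((altOn A).pow_mem hσ i) _ hσ, ih]

/-- The permutations of `altOn A` whose image lies in a subgroup. -/
def comap (H : Subgroup G) : Subgroup (Perm α) where
  carrier := {σ | σ ∈ altOn A ∧ f σ ∈ H}
  one_mem' := ⟨one_mem _, by rw [hf.one]; exact one_mem _⟩
  mul_mem' := by
    rintro s t ⟨h1, h2⟩ ⟨h3, h4⟩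
    exact ⟨mul_mem h1 h3, by rw [hf.mul _ h1 _ h3]; exact mul_mem h2 h4⟩
  inv_mem' := by
    rintro s ⟨h1, h2⟩
    exact ⟨inv_mem h1, by rw [hf.inv h1]; exact inv_mem h2⟩

/-- To map a subgroup of `altOn A` into `H`, it is enough to map generators. -/
theorem mem_of_gen (H : Subgroup G) {s : Set (Perm α)} (hs : ∀ σ ∈ s, σ ∈ altOn A ∧ f σ ∈ H)
    {σ : Perm α} (hσ : σ ∈ Subgroup.closure s) : f σ ∈ H :=
  ((Subgroup.closure_le (hf.comap H)).2 hs hσ).2

end OnHom

/-- The second copy. -/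
def copy (f : Perm α → G) (γ : Perm α) (g : G) : Perm α → G := fun σ => g * f (γ * σ * γ) * g

/-- The data for gluing. -/
structure GlueData (A : Set α) (γ : Perm α) (a b d : α) (W : Perm α) : Prop where
  inv : γ * γ = 1
  cover : ∀ x, x ∈ A ∨ γ x ∈ A
  ha : a ∈ A
  hb : b ∈ A
  hd : d ∈ A
  hd' : γ d ∈ A
  hab : a ≠ b
  hda : d ≠ a
  hdb : d ≠ b
  fixa : γ a = a
  fixb : γ b = b
  third : ∀ x ∈ A, ∃ t ∈ A, t ≠ a ∧ t ≠ b ∧ t ≠ d ∧ t ≠ x
  hW : W ∈ altOn ({x | γ x ∈ A ∧ x ∉ A} ∪ {a, b})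
  hP : altOn {x | γ x ∈ A} ≤ Subgroup.closure ((altOn {x | x ∈ A ∧ γ x ∈ A} : Set (Perm α)) ∪ {W})
  hD : ∀ j, γ j ∈ A → j ∉ A → cyc3 a b j ∈ Subgroup.closure
    {τ | ∃ σ ∈ altOn {x | x ∈ A ∧ γ x ∈ A}, (σ '' {a, b} = {a, b}) ∧ τ = σ * W * σ⁻¹}

theorem conj_gamma_mem {γ : Perm α} (hγ : γ * γ = 1) {X : Set α} {σ : Perm α} (h : σ ∈ altOn X) :
    γ * σ * γ ∈ altOn {x | γ x ∈ X} := by
  have hinv : γ⁻¹ = γ := inv_eq_of_mul_eq_one_right hγ
  have := conj_mem_altOn (σ := γ) h
  rw [hinv] at this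
  refine altOn_mono ?_ this
  rintro _ ⟨x, hx, rfl⟩
  show γ (γ x) ∈ X
  rwa [← Perm.mul_apply, hγ, Perm.one_apply]

theorem conj_gamma_cyc3 {γ : Perm α} (hγ : γ * γ = 1) (u v x : α) :
    γ * cyc3 u v x * γ = cyc3 (γ u) (γ v) (γ x) := by
  have hinv : γ⁻¹ = γ := inv_eq_of_mul_eq_one_right hγ
  have := conj_cyc3 γ u v x
  rwa [hinv] at this

variable {A : Set α} {γ : Perm α} {a b d : α} {W : Perm α} {f : Perm α → G} {g : G}

/-- **Gluing.** -/
theorem GlueData.glue (D : GlueData A γ a b d W) (hf : OnHom A f) (hg : g * g = 1)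
    (agree : ∀ σ ∈ altOn {x | x ∈ A ∧ γ x ∈ A}, copy f γ g σ = f σ)
    (cross : ∀ σ ∈ altOn (A \ {a, b}), f σ * copy f γ g W = copy f γ g W * f σ) :
    ∃ R : Subgroup G, (R : Set G).Finite ∧
      (R : Set G).ncard ≤ Nat.card (alternatingGroup α) ∧
      (∀ σ ∈ altOn A, f σ ∈ R) ∧ ∀ r ∈ R, g * r * g ∈ R := by
  classical
  have hγinv : γ⁻¹ = γ := inv_eq_of_mul_eq_one_right D.inv
  have hγγ : ∀ x, γ (γ x) = x := fun x => by rw [← Perm.mul_apply, D.inv, Perm.one_apply]
  set B : Set α := {x | γ x ∈ A} with hB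
  set S : Set α := {x | x ∈ A ∧ γ x ∈ A} with hS
  set L : Set α := {x | γ x ∈ A ∧ x ∉ A} with hL
  have hSA : S ⊆ A := fun x hx => hx.1
  have hSB : S ⊆ B := fun x hx => hx.2
  have haS : a ∈ S := ⟨D.ha, by rw [D.fixa]; exact D.ha⟩
  have hbS : b ∈ S := ⟨D.hb, by rw [D.fixb]; exact D.hb⟩
  have hdS : d ∈ S := ⟨D.hd, D.hd'⟩
  set fB := copy f γ g with hfB_def
  have hBA : ∀ {σ}, σ ∈ altOn B → γ * σ * γ ∈ altOn A := by
    intro σ hσ
    refine altOn_mono ?_ (conj_gamma_mem D.inv hσ)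
    intro x hx
    simpa [hB, hγγ] using hx
  have hfB : OnHom B fB := ⟨fun σ hσ τ hτ => by
    simp only [hfB_def, copy]
    rw [show γ * (σ * τ) * γ = (γ * σ * γ) * (γ * τ * γ) by
      simp only [mul_assoc]; rw [← mul_assoc γ γ, D.inv, one_mul], hf.mul _ (hBA hσ) _ (hBA hτ)]
    simp only [mul_assoc]
    rw [← mul_assoc g g, hg, one_mul]⟩
  have hWB : W ∈ altOn B := altOn_mono (by
    rintro x (hx | rfl | rfl)
    · exact hx.1
    · exact hSB haS
    · exact hSB hbS) D.hW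
  -- conjugates of the cross relation
  have hcrossS : ∀ σ ∈ altOn S, σ '' {a, b} = {a, b} →
      ∀ τ ∈ altOn (A \ {a, b}), Commute (f τ) (fB (σ * W * σ⁻¹)) := by
    intro σ hσ hpair τ hτ
    have hσA := altOn_mono hSA hσ
    have hτ' : σ⁻¹ * τ * σ⁻¹⁻¹ ∈ altOn (A \ {a, b}) := by
      refine altOn_mono ?_ (conj_mem_altOn hτ)
      rintro _ ⟨x, hx, rfl⟩
      refine ⟨altOn_apply_mem ((altOn A).inv_mem hσA) hx.1, fun hh => hx.2 ?_⟩
      rw [← hpair]
      exact ⟨_, hh, by simp⟩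
    have h1 : Commute (f (σ⁻¹ * τ * σ⁻¹⁻¹)) (fB W) := cross _ hτ'
    have hτA : τ ∈ altOn A := altOn_mono Set.sdiff_subset hτ
    rw [hf.conj ((altOn A).inv_mem hσA) hτA, hf.inv hσA, inv_inv] at h1
    rw [hfB.conj (altOn_mono hSB hσ) hWB, agree σ hσ]
    have h2 := h1.conj (f σ)
    convert h2 using 1
    group
  -- the three-cycles of the second copy outside of the first commute with the first
  have hpairSub : ∀ τ ∈ altOn ({a, b} : Set α), τ ∈ altOn S := fun τ h => altOn_mono (by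
    rintro x (rfl | rfl) <;> assumption) h
  have hLA : ∀ τ ∈ altOn L, ∀ σ ∈ altOn A, Commute (f σ) (fB τ) := by
    intro τ hτ σ hσ
    have hτB : τ ∈ altOn B := altOn_mono (fun x hx => hx.1) hτ
    have hgen : altOn A ≤ Subgroup.closure ((altOn S : Set (Perm α)) ∪ {γ * W * γ}) := by
      intro ρ hρ
      have h1 : γ * ρ * γ ∈ altOn B := conj_gamma_mem D.inv hρ
      have h2 := D.hP h1
      have h3 : (MulAut.conj γ).toMonoidHom (γ * ρ * γ) ∈
          (Subgroup.closure ((altOn S : Set (Perm α)) ∪ {W})).map (MulAut.conj γ).toMonoidHom :=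
        Subgroup.mem_map_of_mem _ h2
      rw [MonoidHom.map_closure] at h3
      have e : (MulAut.conj γ).toMonoidHom (γ * ρ * γ) = ρ := by
        show γ * (γ * ρ * γ) * γ⁻¹ = ρ
        simp only [← mul_assoc, D.inv, one_mul]
        rw [mul_assoc, mul_inv_cancel, mul_one]
      rw [e] at h3
      refine Subgroup.closure_mono ?_ h3
      rintro _ ⟨x, hx | hx, rfl⟩
      · refine Or.inl ?_
        show γ * x * γ⁻¹ ∈ altOn S
        rw [hγinv]
        refine altOn_mono ?_ (conj_gamma_mem D.inv hx)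
        rintro y ⟨h4, h5⟩
        exact ⟨by simpa [hγγ] using h5, h4⟩
      · refine Or.inr ?_
        rw [Set.mem_singleton_iff.1 hx, Set.mem_singleton_iff]
        show γ * W * γ⁻¹ = γ * W * γ
        rw [hγinv]
    have key : f σ ∈ Subgroup.centralizer {fB τ} := by
      refine hf.mem_of_gen _ ?_ (hgen hσ)
      rintro ρ (hρ | hρ)
      · refine ⟨altOn_mono hSA hρ, Subgroup.mem_centralizer_singleton_iff.2 ?_⟩
        rw [← agree ρ hρ, ← hfB.mul _ (altOn_mono hSB hρ) _ hτB, ← hfB.mul _ hτB _ (altOn_mono hSB hρ)]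
        congr 1
        refine altOn_commute ?_ hρ hτ
        exact Set.disjoint_left.2 fun x hx hx' => hx'.2 hx.1
      · rw [Set.mem_singleton_iff.1 hρ]
        refine ⟨hBA hWB, Subgroup.mem_centralizer_singleton_iff.2 ?_⟩
        have hτ' : γ * τ * γ ∈ altOn (A \ {a, b}) := by
          refine altOn_mono ?_ (conj_gamma_mem D.inv hτ)
          intro x hx
          have hx1 : γ (γ x) ∈ A := hx.1
          rw [hγγ] at hx1
          refine ⟨hx1, ?_⟩
          rintro (rfl | rfl)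
          · exact hx.2 (by rw [D.fixa]; exact D.ha)
          · exact hx.2 (by rw [D.fixb]; exact D.hb)
        have := cross _ hτ'
        simp only [hfB_def, copy] at this ⊢
        have e := congrArg (fun u => g * u * g) this
        simp only [mul_assoc] at e ⊢
        simp only [← mul_assoc g g, hg, one_mul, mul_one] at e
        exact e.symm
    exact Subgroup.mem_centralizer_singleton_iff.1 key
  have hYcomm : ∀ j, γ j ∈ A → j ∉ A → ∀ τ ∈ altOn (A \ {a, b}),
      Commute (f τ) (fB (cyc3 a b j)) := by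
    intro j hj hj' τ hτ
    refine (Subgroup.mem_centralizer_singleton_iff.1
      (show fB (cyc3 a b j) ∈ Subgroup.centralizer {f τ} from hfB.mem_of_gen _ ?_ (D.hD j hj hj'))).symm
    rintro _ ⟨σ, hσ, hpair, rfl⟩
    refine ⟨?_, Subgroup.mem_centralizer_singleton_iff.2 (hcrossS σ hσ hpair τ hτ).symm⟩
    exact (altOn B).mul_mem ((altOn B).mul_mem (altOn_mono hSB hσ) hWB)
      ((altOn B).inv_mem (altOn_mono hSB hσ))
  -- Carmichael's relations
  let ι := {x : α // x ≠ a ∧ x ≠ b}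
  let Y : ι → G := fun x => if x.1 ∈ A then f (cyc3 a b x.1) else fB (cyc3 a b x.1)
  have hcA : ∀ x ∈ A, x ≠ a → cyc3 a b x ∈ altOn A := fun x hx hxa =>
    cyc3_mem_altOn D.ha D.hb hx D.hab (Ne.symm hxa)
  have hcB : ∀ x ∈ B, x ≠ a → cyc3 a b x ∈ altOn B := fun x hx hxa =>
    cyc3_mem_altOn (hSB haS) (hSB hbS) hx D.hab (Ne.symm hxa)
  have hYA : ∀ x : ι, x.1 ∈ A → Y x = f (cyc3 a b x.1) := fun x hx => if_pos hx
  have hYB : ∀ x : ι, x.1 ∈ B → Y x = fB (cyc3 a b x.1) := by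
    intro x hx
    by_cases h : x.1 ∈ A
    · rw [hYA x h]
      exact (agree _ (cyc3_mem_altOn haS hbS ⟨h, hx⟩ D.hab (Ne.symm x.2.1))).symm
    · exact if_neg h
  have hinB : ∀ x : ι, x.1 ∉ A → x.1 ∈ B := fun x hx => (D.cover x.1).resolve_left hx
  have hcarm : Carm (fun x : ι => cyc3 a b x.1) :=
    carm_cyc3 Subtype.val_injective D.hab (fun x => x.2.1) (fun x => x.2.2)
  have pairA : ∀ i j : ι, i.1 ∈ A → j.1 ∈ A → i ≠ j → (Y i * Y j) ^ 2 = 1 := by
    intro i j hi hj hij
    have h1 := hcA _ hi i.2.1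
    have h2 := hcA _ hj j.2.1
    rw [hYA i hi, hYA j hj, ← hf.mul _ h1 _ h2, ← hf.pow ((altOn A).mul_mem h1 h2),
      hcarm.2 i j hij, hf.one]
  have pairB : ∀ i j : ι, i.1 ∈ B → j.1 ∈ B → i ≠ j → (Y i * Y j) ^ 2 = 1 := by
    intro i j hi hj hij
    have h1 := hcB _ hi i.2.1
    have h2 := hcB _ hj j.2.1
    rw [hYB i hi, hYB j hj, ← hfB.mul _ h1 _ h2, ← hfB.pow ((altOn B).mul_mem h1 h2),
      hcarm.2 i j hij, hfB.one]
  have crossPair : ∀ i j : ι, i.1 ∈ A → j.1 ∉ A → (Y i * Y j) ^ 2 = 1 := by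
    intro i j hi hj
    have hjB : γ j.1 ∈ A := hinB j hj
    let δ : ι := ⟨d, D.hda, D.hdb⟩
    by_cases hid : i.1 = d
    · exact pairB i j (by rw [hid]; exact D.hd') hjB (fun e => hj (e ▸ hi))
    obtain ⟨t, ht, hta, htb, htd, hti⟩ := D.third i.1 hi
    set h := cyc3 i.1 d t
    have hh : h ∈ altOn (A \ {a, b}) :=
      cyc3_mem_altOn ⟨hi, by simp [i.2.1, i.2.2]⟩ ⟨D.hd, by simp [D.hda, D.hdb]⟩
        ⟨ht, by simp [hta, htb]⟩ hid (Ne.symm hti)
    have hhA : h ∈ altOn A := altOn_mono Set.sdiff_subset hh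
    have ha' : h a = a := cyc3_of_ne (Ne.symm i.2.1) (Ne.symm D.hda) (Ne.symm hta)
    have hb' : h b = b := cyc3_of_ne (Ne.symm i.2.2) (Ne.symm D.hdb) (Ne.symm htb)
    have hi' : h i.1 = d := cyc3_a hid htd
    have e1 : f h * Y i * (f h)⁻¹ = Y δ := by
      rw [hYA i hi, ← hf.conj hhA (hcA _ hi i.2.1), conj_cyc3, ha', hb', hi', hYA δ D.hd]
    have e2 : f h * Y j * (f h)⁻¹ = Y j := by
      have := hYcomm j.1 hjB hj h hh
      rw [show Y j = fB (cyc3 a b j.1) from if_neg hj, this.eq, mul_inv_cancel_right]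
    have h0 := pairB δ j D.hd' hjB (fun e => hj (e ▸ D.hd))
    rw [← e1, ← e2] at h0
    calc (Y i * Y j) ^ 2 = (f h)⁻¹ * (f h * Y i * (f h)⁻¹ * (f h * Y j * (f h)⁻¹)) ^ 2 * f h := by
          simp only [pow_two]; group
      _ = 1 := by rw [h0]; group
  have hYcarm : Carm Y := by
    refine ⟨fun i => ?_, fun i j hij => ?_⟩
    · by_cases hi : i.1 ∈ A
      · rw [hYA i hi, ← hf.pow (hcA _ hi i.2.1), hcarm.1 i, hf.one]
      · rw [hYB i (hinB i hi), ← hfB.pow (hcB _ (hinB i hi) i.2.1), hcarm.1 i, hfB.one]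
    · by_cases hi : i.1 ∈ A <;> by_cases hj : j.1 ∈ A
      · exact pairA i j hi hj hij
      · exact crossPair i j hi hj
      · have := crossPair j i hj hi
        rw [pow_two] at this ⊢
        calc Y i * Y j * (Y i * Y j) = Y i * (Y j * Y i * (Y j * Y i)) * (Y i)⁻¹ := by group
          _ = 1 := by rw [this]; group
      · exact pairB i j (hinB i hi) (hinB j hj) hij
  haveI : Nonempty ι := ⟨⟨d, D.hda, D.hdb⟩⟩
  obtain ⟨Φ, hΦ⟩ := hYcarm.exists_hom (a := a) (b := b) Subtype.val_injective D.hab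
    (fun x => x.2.1) (fun x => x.2.2)
  haveI : Finite Φ.range := Finite.of_surjective Φ.rangeRestrict Φ.rangeRestrict_surjective
  have hYR : ∀ x : ι, Y x ∈ Φ.range := fun x => ⟨_, hΦ x⟩
  refine ⟨Φ.range, Set.toFinite _, ?_, ?_, ?_⟩
  · rw [← Nat.card_coe_set_eq]
    refine (Nat.card_le_card_of_surjective _ Φ.rangeRestrict_surjective).trans ?_
    exact Nat.card_le_card_of_injective
      (fun σ => (⟨σ.1, mem_alternatingGroup.2 (mem_altOn.1 σ.2).2⟩ : alternatingGroup α))
      fun s t hst => Subtype.ext (by simpa using congrArg Subtype.val hst)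
  · intro σ hσ
    refine hf.mem_of_gen _ ?_ (altOn_le_closure D.ha D.hb D.hab hσ)
    rintro _ ⟨x, hx, hxa, hxb, rfl⟩
    exact ⟨hcA x hx hxa, (hYA ⟨x, hxa, hxb⟩ hx) ▸ hYR _⟩
  · have hgY : ∀ x : ι, g * Y x * g ∈ Φ.range := by
      intro x
      have hxa : γ x.1 ≠ a := fun e => x.2.1 (by rw [← hγγ x.1, e, D.fixa])
      have hxb : γ x.1 ≠ b := fun e => x.2.2 (by rw [← hγγ x.1, e, D.fixb])
      let x' : ι := ⟨γ x.1, hxa, hxb⟩
      by_cases hx : x.1 ∈ A
      · have : g * Y x * g = Y x' := by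
          rw [hYA x hx, hYB x' (by show γ (γ x.1) ∈ A; rwa [hγγ])]
          simp only [hfB_def, copy, x']
          rw [conj_gamma_cyc3 D.inv, D.fixa, D.fixb, hγγ]
        rw [this]; exact hYR _
      · have : g * Y x * g = Y x' := by
          rw [show Y x = fB (cyc3 a b x.1) from if_neg hx, hYA x' (hinB x hx)]
          simp only [hfB_def, copy, x']
          rw [conj_gamma_cyc3 D.inv, D.fixa, D.fixb]
          simp only [mul_assoc]
          rw [hg, mul_one, ← mul_assoc, hg, one_mul]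
        rw [this]; exact hYR _
    have hgen : Φ.range = Subgroup.closure (Set.range Y) := by
      refine le_antisymm ?_ ((Subgroup.closure_le _).2 (by rintro _ ⟨x, rfl⟩; exact hYR x))
      rintro _ ⟨σ, rfl⟩
      have hσ' := altOn_le_closure (Set.mem_insert a _) (Set.mem_insert_of_mem _ (Set.mem_insert b _))
        D.hab σ.2
      suffices ∀ τ, τ ∈ Subgroup.closure {τ | ∃ x ∈ insert a (insert b (Set.range (Subtype.val : ι → α))),
          x ≠ a ∧ x ≠ b ∧ τ = cyc3 a b x} → ∀ h : τ ∈ altOn _, Φ ⟨τ, h⟩ ∈ Subgroup.closure (Set.range Y) from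
        this σ.1 hσ' σ.2
      intro τ hτ
      let H : Subgroup (Perm α) :=
        ((Subgroup.closure (Set.range Y)).comap Φ).map
          (altOn (insert a (insert b (Set.range (Subtype.val : ι → α))))).subtype
      have : τ ∈ H := by
        refine (Subgroup.closure_le H).2 ?_ hτ
        rintro _ ⟨x, -, hxa, hxb, rfl⟩
        refine ⟨⟨cyc3 a b x, cyc3_mem_altOn (Set.mem_insert a _)
          (Set.mem_insert_of_mem _ (Set.mem_insert b _))
          (Set.mem_insert_of_mem _ (Set.mem_insert_of_mem _ ⟨⟨x, hxa, hxb⟩, rfl⟩))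
          D.hab (Ne.symm hxa)⟩, ?_, rfl⟩
        show Φ _ ∈ Subgroup.closure (Set.range Y)
        rw [hΦ ⟨x, hxa, hxb⟩]
        exact Subgroup.subset_closure ⟨_, rfl⟩
      obtain ⟨ρ, hρ, hρ'⟩ := this
      intro h
      have : ρ = ⟨τ, h⟩ := Subtype.ext hρ'
      rw [this] at hρ
      exact hρ
    intro r hr
    rw [hgen] at hr ⊢
    induction hr using Subgroup.closure_induction with
    | mem r hr =>
      obtain ⟨x, rfl⟩ := hr
      rw [← hgen]; exact hgY x
    | one => rw [mul_one, hg]; exact one_mem _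
    | mul r s _ _ h1 h2 =>
      have := mul_mem h1 h2
      simp only [mul_assoc] at this ⊢
      rwa [← mul_assoc g g, hg, one_mul] at this
    | inv r _ h =>
      have := inv_mem h
      have hgi : g⁻¹ = g := inv_eq_of_mul_eq_one_right hg
      simpa [hgi, mul_assoc] using this

/-- The subgroup generated by `R` and an involution normalizing it has at most `2 |R|` elements. -/
theorem closure_insert_le {R : Subgroup G} {g : G} (hg : g * g = 1) (hR : (R : Set G).Finite)
    (hnorm : ∀ r ∈ R, g * r * g ∈ R) :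
    ((Subgroup.closure (insert g (R : Set G)) : Subgroup G) : Set G).Finite ∧
      ((Subgroup.closure (insert g (R : Set G)) : Subgroup G) : Set G).ncard ≤ 2 * (R : Set G).ncard := by
  let H : Subgroup G :=
    { carrier := {x | x ∈ R ∨ g * x ∈ R}
      one_mem' := Or.inl (one_mem R)
      mul_mem' := by
        rintro x y (hx | hx) (hy | hy)
        · exact Or.inl (mul_mem hx hy)
        · refine Or.inr ?_
          have := mul_mem (hnorm _ hx) hy
          simp only [mul_assoc] at this ⊢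
          rwa [← mul_assoc g g, hg, one_mul] at this
        · exact Or.inr (by rw [← mul_assoc]; exact mul_mem hx hy)
        · refine Or.inl ?_
          have := mul_mem (hnorm _ hx) hy
          simp only [← mul_assoc] at this ⊢
          simp only [hg, one_mul] at this
          rw [mul_assoc x g g, hg, mul_one] at this
          exact this
      inv_mem' := by
        rintro x (hx | hx)
        · exact Or.inl (inv_mem hx)
        · refine Or.inr ?_
          have hgi : g⁻¹ = g := inv_eq_of_mul_eq_one_right hg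
          have := hnorm _ (inv_mem hx)
          simpa [hgi, mul_assoc, hg] using this }
  have hsub : ((Subgroup.closure (insert g (R : Set G)) : Subgroup G) : Set G) ⊆
      (R : Set G) ∪ (fun r => g * r) '' (R : Set G) := by
    intro x hx
    have : x ∈ H := (Subgroup.closure_le H).2 (by
      rintro y (rfl | hy)
      · exact Or.inr (by rw [hg]; exact one_mem R)
      · exact Or.inl hy) hx
    rcases this with h | h
    · exact Or.inl h
    · exact Or.inr ⟨g * x, h, by show g * (g * x) = x; rw [← mul_assoc, hg, one_mul]⟩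
  have hfin : ((R : Set G) ∪ (fun r => g * r) '' (R : Set G)).Finite := hR.union (hR.image _)
  refine ⟨hfin.subset hsub, (Set.ncard_le_ncard hsub hfin).trans ((Set.ncard_union_le _ _).trans ?_)⟩
  have := Set.ncard_image_le (f := fun r => g * r) hR
  omega

end CfsgLib.ShortPres
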