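import Cfsg.Agent.Lib.ShortPres.FullPresents
import Mathlib.GroupTheory.Perm.ViaEmbedding
import Mathlib.RingTheory.IntegralDomain
import Mathlib.Tactic.FinCases

/-!
# The concrete permutations for `p + 2 ≤ n < 2 p`
-/

namespace CfsgLib.ShortPres

open Equiv Equiv.Perm

/-- Parameters. -/
structure Par where
  n : ℕ
  p : ℕ
  hp : p.Prime
  h5 : 5 ≤ p
  hlo : p + 2 ≤ n
  hhi : n < 2 * p

namespace Par

variable (P : Par)

instance : Fact P.p.Prime := ⟨P.hp⟩
instance : NeZero P.p := ⟨P.hp.ne_zero⟩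

theorem lt_n {k : ℕ} (h : k < P.p + 2) : k < P.n := lt_of_lt_of_le h P.hlo

/-- Points. -/
def pt (k : ℕ) (h : k < P.p + 2) : Fin P.n := ⟨k, P.lt_n h⟩

/-- The points moved by the translation. -/
def e (i : ZMod P.p) : Fin P.n := P.pt (2 + i.val) (by have := i.val_lt; omega)

theorem e_val (i : ZMod P.p) : (P.e i : ℕ) = 2 + i.val := rfl

theorem e_inj : Function.Injective P.e := fun i j h => by
  have h' := congrArg Fin.val h
  rw [e_val, e_val] at h'
  exact ZMod.val_injective _ (by omega)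

/-- The embedding of the residues. -/
def emb : ZMod P.p ↪ Fin P.n := ⟨P.e, P.e_inj⟩

/-- The first base point. -/
def pa : Fin P.n := P.pt 0 (by omega)
/-- The second base point. -/
def pb : Fin P.n := P.pt 1 (by omega)

theorem pa_val : (P.pa : ℕ) = 0 := rfl
theorem pb_val : (P.pb : ℕ) = 1 := rfl

theorem hab : P.pa ≠ P.pb := fun h => by have := congrArg Fin.val h; simp [pa, pb, pt] at this

theorem e_ne_a (i : ZMod P.p) : P.e i ≠ P.pa := fun h => by
  have := congrArg Fin.val h; rw [e_val, pa_val] at this; omega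

theorem e_ne_b (i : ZMod P.p) : P.e i ≠ P.pb := fun h => by
  have := congrArg Fin.val h; rw [e_val, pb_val] at this; omega

theorem mem_A {x : Fin P.n} :
    x ∈ insert P.pa (insert P.pb (Set.range P.e)) ↔ (x : ℕ) < P.p + 2 := by
  constructor
  · rintro (rfl | rfl | ⟨i, rfl⟩)
    · rw [pa_val]; omega
    · rw [pb_val]; omega
    · rw [e_val]; have := i.val_lt; omega
  · intro h
    rcases Nat.lt_or_ge (x : ℕ) 2 with h2 | h2
    · rcases Nat.lt_or_ge (x : ℕ) 1 with h1 | h1
      · exact Or.inl (Fin.ext (by rw [pa_val]; omega))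
      · exact Or.inr (Or.inl (Fin.ext (by rw [pb_val]; omega)))
    · refine Or.inr (Or.inr ⟨(((x : ℕ) - 2 : ℕ) : ZMod P.p), Fin.ext ?_⟩)
      rw [e_val, ZMod.val_natCast, Nat.mod_eq_of_lt (by omega)]
      omega

theorem exists_root : ∃ r : ZMod P.p, (∀ i : ZMod P.p, i ≠ 0 → ∃ t : ℕ, r ^ t = i) ∧
    r ≠ 0 ∧ r ≠ 1 ∧ 1 + r ≠ 0 := by
  obtain ⟨g, hg⟩ := IsCyclic.exists_generator (α := (ZMod P.p)ˣ)
  have hgen : ∀ i : ZMod P.p, i ≠ 0 → ∃ t : ℕ, (g : ZMod P.p) ^ t = i := by
    intro i hi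
    obtain ⟨t, ht⟩ := (mem_powers_iff_mem_zpowers.2 (hg (Units.mk0 i hi)))
    exact ⟨t, by rw [← Units.val_pow_eq_pow_val]; exact congrArg Units.val ht⟩
  have hne : ∀ k : ℕ, 0 < k → k < 5 → ((k : ℕ) : ZMod P.p) ≠ 0 := by
    intro k h0 hk h
    rw [ZMod.natCast_eq_zero_iff] at h
    have := Nat.le_of_dvd h0 h
    have := P.h5
    omega
  have h2 : (2 : ZMod P.p) ≠ 0 := by exact_mod_cast hne 2 (by omega) (by omega)
  have h3 : (3 : ZMod P.p) ≠ 0 := by exact_mod_cast hne 3 (by omega) (by omega)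
  obtain ⟨t, ht⟩ := hgen 2 h2
  refine ⟨g, hgen, g.ne_zero, ?_, ?_⟩
  · intro h
    rw [h, one_pow] at ht
    exact one_ne_zero (α := ZMod P.p) (by linear_combination (-1 : ZMod P.p) * ht)
  · intro h
    rw [eq_neg_of_add_eq_zero_right h] at ht
    rcases neg_one_pow_eq_or (ZMod P.p) t with h' | h' <;> rw [h'] at ht
    · exact one_ne_zero (α := ZMod P.p) (by linear_combination (-1 : ZMod P.p) * ht)
    · exact h3 (by linear_combination (-1 : ZMod P.p) * ht)

theorem viaEmb_fix (σ : Perm (ZMod P.p)) {x : Fin P.n} (h : x ∉ Set.range P.e) :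
    σ.viaEmbedding P.emb x = x := viaEmbedding_apply_of_notMem σ P.emb x h

theorem viaEmb_e (σ : Perm (ZMod P.p)) (i : ZMod P.p) :
    σ.viaEmbedding P.emb (P.e i) = P.e (σ i) := viaEmbedding_apply σ P.emb i

theorem sign_viaEmb (σ : Perm (ZMod P.p)) : sign (σ.viaEmbedding P.emb) = sign σ := by
  classical
  rw [viaEmbedding]
  convert sign_extendDomain σ (Equiv.ofInjective P.emb.1 P.emb.2) using 2
  convert rfl using 2

theorem sign_add_one : sign (Equiv.addRight (1 : ZMod P.p)) = 1 := by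
  have h : Equiv.addRight (1 : ZMod P.p) ^ P.p = 1 := by
    have key : ∀ k : ℕ, ∀ x, (Equiv.addRight (1 : ZMod P.p) ^ k) x = x + k := by
      intro k
      induction k with
      | zero => simp
      | succ k ih => intro x; rw [pow_succ', Perm.mul_apply, ih]; simp [add_assoc]
    ext x; simp [key]
  have h1 := congrArg sign h
  rw [map_pow, map_one] at h1
  obtain ⟨k, hk⟩ := P.hp.odd_of_ne_two (by have := P.h5; omega)
  have h2 := (congrArg (sign (Equiv.addRight (1 : ZMod P.p)) ^ ·) hk).symm.trans h1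
  simp only [pow_succ _ (2 * k), pow_mul, Int.units_sq, one_pow, one_mul] at h2
  exact h2

theorem sign_mul {r : ZMod P.p} (hr : ∀ i : ZMod P.p, i ≠ 0 → ∃ t : ℕ, r ^ t = i) (h0 : r ≠ 0)
    (h1 : r ≠ 1) : sign (Equiv.mulLeft₀ r h0) = -1 := by
  set f := Equiv.mulLeft₀ r h0
  have hf : ∀ x, f x = r * x := fun x => rfl
  have hfix : ∀ x, f x ≠ x ↔ x ≠ 0 := by
    intro x
    rw [hf]
    constructor
    · rintro h rfl; exact h (mul_zero r)
    · intro h e; exact h1 (mul_right_cancel₀ h (e.trans (one_mul x).symm))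
  have hpow : ∀ t : ℕ, (f ^ t) 1 = r ^ t := by
    intro t
    induction t with
    | zero => simp
    | succ t ih => rw [pow_succ', Perm.mul_apply, ih, hf, pow_succ']
  have hcyc : f.IsCycle := ⟨1, (hfix 1).2 one_ne_zero, fun y hy => by
    obtain ⟨t, ht⟩ := hr y ((hfix y).1 hy)
    exact ⟨t, by rw [zpow_natCast, hpow, ht]⟩⟩
  have hs : f.support = Finset.univ.erase 0 := by
    ext x; simp [hfix]
  rw [hcyc.sign, hs, Finset.card_erase_of_mem (Finset.mem_univ _), Finset.card_univ, ZMod.card]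
  obtain ⟨k, hk⟩ := P.hp.odd_of_ne_two (by have := P.h5; omega)
  rw [hk, Nat.add_sub_cancel, pow_mul, neg_one_sq, one_pow]

/-- The base permutations. -/
noncomputable def base : Base P.p (Fin P.n) :=
  let h := P.exists_root.choose_spec
  { a := P.pa
    b := P.pb
    e := P.e
    r := P.exists_root.choose
    a0 := (Equiv.addRight (1 : ZMod P.p)).viaEmbedding P.emb
    b0 := swap P.pa P.pb * (Equiv.mulLeft₀ _ h.2.1).viaEmbedding P.emb
    hab := P.hab
    he := P.e_inj
    hea := P.e_ne_a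
    heb := P.e_ne_b
    ha0 := mem_altOn.2 ⟨fun x hx => P.viaEmb_fix _ fun ⟨i, hi⟩ => hx (Or.inr (Or.inr ⟨i, hi⟩)), by
      rw [P.sign_viaEmb, P.sign_add_one]⟩
    hb0 := mem_altOn.2 ⟨fun x hx => by
        rw [Perm.mul_apply, P.viaEmb_fix _ fun ⟨i, hi⟩ => hx (Or.inr (Or.inr ⟨i, hi⟩))]
        exact swap_apply_of_ne_of_ne (fun e => hx (Or.inl e)) (fun e => hx (Or.inr (Or.inl e))), by
      rw [map_mul, sign_swap P.hab, P.sign_viaEmb, P.sign_mul h.1 h.2.1 h.2.2.1]; rfl⟩
    a0a := P.viaEmb_fix _ fun ⟨i, hi⟩ => P.e_ne_a i hi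
    a0b := P.viaEmb_fix _ fun ⟨i, hi⟩ => P.e_ne_b i hi
    a0e := fun i => P.viaEmb_e _ i
    b0a := by
      rw [Perm.mul_apply, P.viaEmb_fix _ fun ⟨i, hi⟩ => P.e_ne_a i hi, swap_apply_left]
    b0b := by
      rw [Perm.mul_apply, P.viaEmb_fix _ fun ⟨i, hi⟩ => P.e_ne_b i hi, swap_apply_right]
    b0e := fun i => by
      rw [Perm.mul_apply, P.viaEmb_e]
      exact swap_apply_of_ne_of_ne (P.e_ne_a _) (P.e_ne_b _)
    hr := h.1
    hr1 := h.2.2.2 }

theorem mem_baseA {x : Fin P.n} : x ∈ P.base.A ↔ (x : ℕ) < P.p + 2 := P.mem_A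

/-- The number of common points. -/
def s : ℕ := 2 * P.p + 4 - P.n

theorem s_spec : P.s + P.n = 2 * P.p + 4 ∧ 5 ≤ P.s ∧ P.s ≤ P.p + 2 := by
  have := P.hlo; have := P.hhi; have := P.h5
  unfold s; omega

/-- The exchange of the points outside of the intersection. -/
def flip : Perm (Fin P.n) where
  toFun x := if h : (x : ℕ) < P.s then x else
    if h' : (x : ℕ) < P.p + 2 then ⟨x + (P.p + 2 - P.s), by have := P.s_spec; omega⟩
    else ⟨x - (P.p + 2 - P.s), by omega⟩
  invFun x := if h : (x : ℕ) < P.s then x else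
    if h' : (x : ℕ) < P.p + 2 then ⟨x + (P.p + 2 - P.s), by have := P.s_spec; omega⟩
    else ⟨x - (P.p + 2 - P.s), by omega⟩
  left_inv x := by
    have := P.s_spec; have := x.isLt
    apply Fin.ext
    by_cases h : (x : ℕ) < P.s
    · simp [h]
    · by_cases h' : (x : ℕ) < P.p + 2 <;> simp only [h, h', dite_true, dite_false] <;>
        split_ifs <;> simp only [] at * <;> omega
  right_inv x := by
    have := P.s_spec; have := x.isLt
    apply Fin.ext
    by_cases h : (x : ℕ) < P.s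
    · simp [h]
    · by_cases h' : (x : ℕ) < P.p + 2 <;> simp only [h, h', dite_true, dite_false] <;>
        split_ifs <;> simp only [] at * <;> omega

/-- The third point. -/
def p3 : Fin P.n := P.pt 3 (by have := P.h5; omega)
/-- The fourth point. -/
def p4 : Fin P.n := P.pt 4 (by have := P.h5; omega)

theorem p3_val : (P.p3 : ℕ) = 3 := rfl
theorem p4_val : (P.p4 : ℕ) = 4 := rfl

theorem h34 : P.p3 ≠ P.p4 := fun h => by
  have := congrArg Fin.val h; rw [p3_val, p4_val] at this; omega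

/-- The involution, with either sign. -/
def gam (ε : Bool) : Perm (Fin P.n) := P.flip * if ε then swap P.p3 P.p4 else 1

theorem flip_low {x : Fin P.n} (h : (x : ℕ) < P.s) : P.flip x = x := by simp [flip, h]

theorem gam_low {ε : Bool} {x : Fin P.n} (h : (x : ℕ) < P.s) : (P.gam ε x : ℕ) < P.s := by
  have := P.s_spec
  cases ε
  · simp [gam, P.flip_low h, h]
  · simp only [gam, if_true, Perm.mul_apply]
    rw [P.flip_low]
    · rw [swap_apply_def]; split_ifs <;> (try simp only [p3_val, p4_val]) <;> omega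
    · rw [swap_apply_def]; split_ifs <;> (try simp only [p3_val, p4_val]) <;> omega

theorem gam_high {ε : Bool} {x : Fin P.n} (h : P.s ≤ (x : ℕ)) : P.gam ε x = P.flip x := by
  have := P.s_spec
  cases ε
  · simp [gam]
  · simp only [gam, if_true, Perm.mul_apply]
    rw [swap_apply_of_ne_of_ne (fun e => by rw [e, p3_val] at h; omega)
      (fun e => by rw [e, p4_val] at h; omega)]

theorem flip_mid {x : Fin P.n} (h : P.s ≤ (x : ℕ)) (h' : (x : ℕ) < P.p + 2) :
    P.p + 2 ≤ (P.flip x : ℕ) := by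
  simp only [flip, Equiv.coe_fn_mk]
  rw [dif_neg (by omega), dif_pos h']
  show P.p + 2 ≤ (x : ℕ) + _
  omega

theorem flip_top {x : Fin P.n} (h : P.p + 2 ≤ (x : ℕ)) :
    (P.flip x : ℕ) < P.p + 2 ∧ P.s ≤ (P.flip x : ℕ) := by
  have := P.s_spec; have := x.isLt
  simp only [flip, Equiv.coe_fn_mk]
  rw [dif_neg (by omega), dif_neg (by omega)]
  show (x : ℕ) - _ < _ ∧ _ ≤ (x : ℕ) - _
  omega

theorem gam_mul (ε : Bool) : P.gam ε * P.gam ε = 1 := by
  have := P.s_spec
  have hff : P.flip * P.flip = 1 := by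
    ext x; exact congrArg Fin.val (P.flip.left_inv x)
  cases ε
  · simp [gam, hff]
  · have hc : P.flip * swap P.p3 P.p4 = swap P.p3 P.p4 * P.flip := by
      rw [mul_swap_eq_swap_mul, P.flip_low (by rw [p3_val]; omega), P.flip_low (by rw [p4_val]; omega)]
    simp only [gam, if_true]
    calc P.flip * swap P.p3 P.p4 * (P.flip * swap P.p3 P.p4)
        = P.flip * (swap P.p3 P.p4 * P.flip) * swap P.p3 P.p4 := by group
      _ = (P.flip * P.flip) * (swap P.p3 P.p4 * swap P.p3 P.p4) := by rw [← hc]; group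
      _ = 1 := by rw [hff, swap_mul_self, one_mul]

theorem gam_fix {ε : Bool} {x : Fin P.n} (h : (x : ℕ) < 3) : P.gam ε x = x := by
  have := P.s_spec
  cases ε
  · simp [gam, P.flip_low (x := x) (by omega)]
  · simp only [gam, if_true, Perm.mul_apply]
    rw [swap_apply_of_ne_of_ne (fun e => by rw [e, p3_val] at h; omega)
      (fun e => by rw [e, p4_val] at h; omega), P.flip_low (by omega)]

theorem mem_S {ε : Bool} {x : Fin P.n} : x ∈ P.base.S (P.gam ε) ↔ (x : ℕ) < P.s := by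
  have := P.s_spec
  constructor
  · rintro ⟨h1, h2⟩
    rw [P.mem_baseA] at h1 h2
    by_contra h
    rw [P.gam_high (by omega)] at h2
    have := P.flip_mid (x := x) (by omega) h1
    omega
  · intro h
    exact ⟨P.mem_baseA.2 (by omega), P.mem_baseA.2 (by have := P.gam_low (ε := ε) h; omega)⟩

theorem mem_B {ε : Bool} {x : Fin P.n} :
    P.gam ε x ∈ P.base.A ↔ (x : ℕ) < P.s ∨ P.p + 2 ≤ (x : ℕ) := by
  have := P.s_spec
  rw [P.mem_baseA]
  constructor
  · intro h2
    by_contra h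
    rw [P.gam_high (by omega)] at h2
    have := P.flip_mid (x := x) (by omega) (by omega)
    omega
  · rintro (h | h)
    · have := P.gam_low (ε := ε) h; omega
    · rw [P.gam_high (by omega)]; exact (P.flip_top h).1

/-- The rotation of an interval. -/
def rot (lo hi : ℕ) (h : lo < hi) (h' : hi ≤ P.n) : Perm (Fin P.n) where
  toFun x := if hx : lo ≤ (x : ℕ) ∧ (x : ℕ) < hi then
      (if hx' : (x : ℕ) + 1 < hi then ⟨x + 1, by omega⟩ else ⟨lo, by omega⟩) else x
  invFun x := if hx : lo ≤ (x : ℕ) ∧ (x : ℕ) < hi then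
      (if hx' : lo < (x : ℕ) then ⟨x - 1, by omega⟩ else ⟨hi - 1, by omega⟩) else x
  left_inv x := by
    apply Fin.ext
    by_cases hx : lo ≤ (x : ℕ) ∧ (x : ℕ) < hi
    · by_cases hx' : (x : ℕ) + 1 < hi
      · simp only [dif_pos hx, dif_pos hx']
        rw [dif_pos (show lo ≤ (x : ℕ) + 1 ∧ (x : ℕ) + 1 < hi by omega),
          dif_pos (show lo < (x : ℕ) + 1 by omega)]
        exact Nat.add_sub_cancel _ _
      · simp only [dif_pos hx, dif_neg hx']
        rw [dif_pos ⟨le_rfl, h⟩, dif_neg (lt_irrefl _)]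
        show hi - 1 = (x : ℕ)
        omega
    · simp [hx]
  right_inv x := by
    apply Fin.ext
    by_cases hx : lo ≤ (x : ℕ) ∧ (x : ℕ) < hi
    · by_cases hx' : lo < (x : ℕ)
      · simp only [dif_pos hx, dif_pos hx']
        rw [dif_pos (show lo ≤ (x : ℕ) - 1 ∧ (x : ℕ) - 1 < hi by omega),
          dif_pos (show (x : ℕ) - 1 + 1 < hi by omega)]
        show (x : ℕ) - 1 + 1 = (x : ℕ)
        omega
      · simp only [dif_pos hx, dif_neg hx']
        rw [dif_pos (show lo ≤ hi - 1 ∧ hi - 1 < hi by omega),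
          dif_neg (show ¬ hi - 1 + 1 < hi by omega)]
        show lo = (x : ℕ)
        omega
    · simp [hx]

theorem rot_fix {lo hi : ℕ} {h : lo < hi} {h' : hi ≤ P.n} {x : Fin P.n}
    (hx : ¬ (lo ≤ (x : ℕ) ∧ (x : ℕ) < hi)) : P.rot lo hi h h' x = x := by simp [rot, hx]

theorem rot_succ {lo hi : ℕ} {h : lo < hi} {h' : hi ≤ P.n} {x : Fin P.n}
    (hx : lo ≤ (x : ℕ)) (hx' : (x : ℕ) + 1 < hi) : (P.rot lo hi h h' x : ℕ) = x + 1 := by
  simp only [rot, Equiv.coe_fn_mk]
  rw [dif_pos ⟨hx, by omega⟩, dif_pos hx']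

/-- Makes a permutation even. -/
noncomputable def fixSign (σ : Perm (Fin P.n)) : Perm (Fin P.n) :=
  if sign σ = 1 then σ else σ * swap P.pa P.pb

theorem sign_fixSign (σ : Perm (Fin P.n)) : sign (P.fixSign σ) = 1 := by
  unfold fixSign
  split_ifs with h
  · exact h
  · rw [map_mul, sign_swap P.hab]
    rcases Int.units_eq_one_or (sign σ) with h' | h'
    · exact absurd h' h
    · rw [h']; decide

theorem fixSign_apply (σ : Perm (Fin P.n)) {x : Fin P.n} (ha : x ≠ P.pa) (hb : x ≠ P.pb) :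
    P.fixSign σ x = σ x := by
  unfold fixSign
  split_ifs
  · rfl
  · rw [Perm.mul_apply, swap_apply_of_ne_of_ne ha hb]

theorem fixSign_pair (σ : Perm (Fin P.n)) {x : Fin P.n} (h : x = P.pa ∨ x = P.pb) :
    P.fixSign σ x = σ P.pa ∨ P.fixSign σ x = σ P.pb := by
  unfold fixSign
  split_ifs
  · rcases h with rfl | rfl <;> simp
  · rcases h with rfl | rfl <;> simp

/-- The cycle on the intersection. -/
noncomputable def cS : Perm (Fin P.n) :=
  P.fixSign (P.rot 2 P.s (by have := P.s_spec; omega) (by have := P.s_spec; have := P.hlo; omega))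

/-- The even permutation moving the points outside of the first copy. -/
noncomputable def wL : Perm (Fin P.n) :=
  if h : P.p + 2 < P.n then
    P.fixSign (swap P.pa ⟨P.p + 2, h⟩ * P.rot (P.p + 2) P.n h le_rfl)
  else 1

theorem cS_mem {ε : Bool} : P.cS ∈ altOn (P.base.S (P.gam ε)) := by
  have := P.s_spec
  refine mem_altOn.2 ⟨fun x hx => ?_, P.sign_fixSign _⟩
  rw [P.mem_S] at hx
  unfold cS
  rw [P.fixSign_apply _ (fun e => hx (by rw [e, pa_val]; omega)) (fun e => hx (by rw [e, pb_val]; omega)),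
    P.rot_fix (by omega)]

theorem cS_gen {ε : Bool} : altOn (P.base.S (P.gam ε)) ≤
    Subgroup.closure {τ | ∃ i : ℕ, τ = P.cS ^ i * P.base.c 0 * (P.cS ^ i)⁻¹} := by
  have := P.s_spec
  refine (altOn_le_closure (P.mem_S.2 (by rw [pa_val]; omega)) (P.mem_S.2 (by rw [pb_val]; omega))
    P.hab).trans ((Subgroup.closure_le _).2 ?_)
  rintro _ ⟨x, hx, hxa, hxb, rfl⟩
  rw [P.mem_S] at hx
  have hx2 : 2 ≤ (x : ℕ) := by
    by_contra h
    rcases Nat.eq_zero_or_pos (x : ℕ) with h0 | h0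
    · exact hxa (Fin.ext (by rw [pa_val]; omega))
    · exact hxb (Fin.ext (by rw [pb_val]; omega))
  have hpair : ∀ i : ℕ, ∀ y, y = P.pa ∨ y = P.pb →
      (P.cS ^ i) y = P.pa ∨ (P.cS ^ i) y = P.pb := by
    intro i
    induction i with
    | zero => simp
    | succ i ih =>
      intro y hy
      rw [pow_succ', Perm.mul_apply]
      have := P.fixSign_pair (P.rot 2 P.s (by omega) (by have := P.hlo; omega)) (ih y hy)
      rwa [P.rot_fix (by rw [pa_val]; omega), P.rot_fix (by rw [pb_val]; omega)] at this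
  have hmove : ∀ i : ℕ, 2 + i < P.s → ((P.cS ^ i) (P.e 0) : ℕ) = 2 + i := by
    intro i
    induction i with
    | zero => intro _; simp [e_val]
    | succ i ih =>
      intro hi
      have h := ih (by omega)
      rw [pow_succ', Perm.mul_apply]
      show ((P.fixSign _) ((P.cS ^ i) (P.e 0)) : ℕ) = _
      rw [P.fixSign_apply _ (fun e => by rw [e, pa_val] at h; omega)
        (fun e => by rw [e, pb_val] at h; omega), P.rot_succ (by omega) (by omega)]
      omega
  set i := (x : ℕ) - 2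
  have hxe : (P.cS ^ i) (P.e 0) = x := Fin.ext (by rw [hmove i (by omega)]; omega)
  have hmem : cyc3 ((P.cS ^ i) P.pa) ((P.cS ^ i) P.pb) x ∈
      Subgroup.closure {τ | ∃ i : ℕ, τ = P.cS ^ i * P.base.c 0 * (P.cS ^ i)⁻¹} := by
    rw [← hxe, ← conj_cyc3]
    exact Subgroup.subset_closure ⟨i, rfl⟩
  have hne : (P.cS ^ i) P.pa ≠ (P.cS ^ i) P.pb := fun e => P.hab ((P.cS ^ i).injective e)
  rcases hpair i P.pa (Or.inl rfl) with h1 | h1 <;> rcases hpair i P.pb (Or.inr rfl) with h2 | h2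
  · exact absurd (h1.trans h2.symm) hne
  · rwa [h1, h2] at hmem
  · rw [h1, h2, cyc3_swap P.hab (Ne.symm hxa) (Ne.symm hxb)] at hmem
    simpa using inv_mem hmem
  · exact absurd (h1.trans h2.symm) hne

theorem P_gen {ε : Bool} : altOn (P.base.A \ {P.base.a, P.base.b}) ≤ Subgroup.closure
    {τ | ∃ i : ℕ, ∃ σ ∈ altOn (P.base.S (P.gam ε) \ {P.base.a, P.base.b}),
      τ = P.base.a0 ^ i * σ * (P.base.a0 ^ i)⁻¹} := by
  have := P.s_spec; have := P.h5
  set K := Subgroup.closure
    {τ | ∃ i : ℕ, ∃ σ ∈ altOn (P.base.S (P.gam ε) \ {P.base.a, P.base.b}),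
      τ = P.base.a0 ^ i * σ * (P.base.a0 ^ i)⁻¹}
  have hinv : ∀ τ ∈ K, P.base.a0 * τ * P.base.a0⁻¹ ∈ K := by
    intro τ hτ
    have h1 : (MulAut.conj P.base.a0).toMonoidHom τ ∈ K.map (MulAut.conj P.base.a0).toMonoidHom :=
      Subgroup.mem_map_of_mem _ hτ
    rw [MonoidHom.map_closure] at h1
    refine (Subgroup.closure_mono ?_) h1
    rintro _ ⟨_, ⟨i, σ, hσ, rfl⟩, rfl⟩
    refine ⟨i + 1, σ, hσ, ?_⟩
    show P.base.a0 * _ * P.base.a0⁻¹ = _
    rw [pow_succ']; group
  have hene : ∀ i j : ℕ, i < P.p → j < P.p → i ≠ j → P.e (i : ZMod P.p) ≠ P.e (j : ZMod P.p) := by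
    intro i j hi hj hij e
    have e' := congrArg ZMod.val (P.e_inj e)
    rw [ZMod.val_natCast, ZMod.val_natCast, Nat.mod_eq_of_lt hi, Nat.mod_eq_of_lt hj] at e'
    exact hij e'
  have hmemP : ∀ i : ℕ, i < P.p → 2 + i < P.s →
      P.e (i : ZMod P.p) ∈ P.base.S (P.gam ε) \ {P.base.a, P.base.b} := by
    intro i hi hi'
    refine ⟨P.mem_S.2 (by rw [e_val, ZMod.val_natCast, Nat.mod_eq_of_lt hi]; exact hi'), ?_⟩
    rintro (h | h)
    · exact P.e_ne_a _ h
    · exact P.e_ne_b _ h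
  have key : ∀ j : ℕ, 2 ≤ j → j < P.p →
      cyc3 (P.e ((0 : ℕ) : ZMod P.p)) (P.e ((1 : ℕ) : ZMod P.p)) (P.e (j : ZMod P.p)) ∈ K := by
    have base2 : cyc3 (P.e ((0 : ℕ) : ZMod P.p)) (P.e ((1 : ℕ) : ZMod P.p))
        (P.e ((2 : ℕ) : ZMod P.p)) ∈ K := by
      refine Subgroup.subset_closure ⟨0, _, cyc3_mem_altOn (hmemP 0 (by omega) (by omega))
        (hmemP 1 (by omega) (by omega)) (hmemP 2 (by omega) (by omega))
        (hene 0 1 (by omega) (by omega) (by omega)) (hene 0 2 (by omega) (by omega) (by omega)), ?_⟩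
      simp
    intro j hj
    induction j, hj using Nat.le_induction with
    | base => intro _; exact base2
    | succ j hj ih =>
      intro hj'
      have h1 := hinv _ (ih (by omega))
      rw [conj_cyc3] at h1
      have ea : ∀ i : ℕ, P.base.a0 (P.e (i : ZMod P.p)) = P.e ((i + 1 : ℕ) : ZMod P.p) := by
        intro i; rw [Nat.cast_succ]; exact P.base.a0e _
      rw [ea, ea, ea] at h1
      have h2 := mul_mem (mul_mem (inv_mem base2) h1) base2
      set y := cyc3 (P.e ((0 : ℕ) : ZMod P.p)) (P.e ((1 : ℕ) : ZMod P.p))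
        (P.e ((2 : ℕ) : ZMod P.p)) with hy
      have e3 : y⁻¹ * cyc3 (P.e ((0 + 1 : ℕ) : ZMod P.p)) (P.e ((1 + 1 : ℕ) : ZMod P.p))
          (P.e ((j + 1 : ℕ) : ZMod P.p)) * y⁻¹⁻¹ = cyc3 (P.e ((0 : ℕ) : ZMod P.p))
          (P.e ((1 : ℕ) : ZMod P.p)) (P.e ((j + 1 : ℕ) : ZMod P.p)) := by
        rw [conj_cyc3]
        congr 1
        · rw [Perm.inv_eq_iff_eq, hy, cyc3_a (hene 0 1 (by omega) (by omega) (by omega))
            (hene 2 1 (by omega) (by omega) (by omega))]
        · rw [Perm.inv_eq_iff_eq, hy, cyc3_b]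
        · rw [Perm.inv_eq_iff_eq, hy, cyc3_of_ne (hene (j + 1) 0 (by omega) (by omega) (by omega))
            (hene (j + 1) 1 (by omega) (by omega) (by omega))
            (hene (j + 1) 2 (by omega) (by omega) (by omega))]
      rw [inv_inv] at e3
      rwa [e3] at h2
  refine (altOn_le_closure (X := P.base.A \ {P.base.a, P.base.b})
    ⟨P.base.e_mem ((0 : ℕ) : ZMod P.p), by rintro (h | h); exacts [P.e_ne_a _ h, P.e_ne_b _ h]⟩
    ⟨P.base.e_mem ((1 : ℕ) : ZMod P.p), by rintro (h | h); exacts [P.e_ne_a _ h, P.e_ne_b _ h]⟩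
    (hene 0 1 (by omega) (by omega) (by omega))).trans ((Subgroup.closure_le K).2 ?_)
  rintro _ ⟨x, ⟨hxA, hxab⟩, hx0, hx1, rfl⟩
  rcases hxA with h | h | ⟨i, rfl⟩
  · exact absurd (Or.inl h) hxab
  · exact absurd (Or.inr h) hxab
  · rw [← ZMod.natCast_zmod_val i] at hx0 hx1 ⊢
    refine key i.val ?_ i.val_lt
    by_contra h
    rcases Nat.eq_zero_or_pos i.val with h0 | h0
    · exact hx0 (by rw [h0])
    · exact hx1 (by rw [show i.val = 1 by omega])

theorem wL_top {x : Fin P.n} (h : P.p + 2 ≤ (x : ℕ)) (h' : (x : ℕ) + 1 < P.n) :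
    (P.wL x : ℕ) = x + 1 := by
  have hn : P.p + 2 < P.n := by omega
  unfold wL
  rw [dif_pos hn, P.fixSign_apply _ (fun e => by rw [e, pa_val] at h; omega)
    (fun e => by rw [e, pb_val] at h; omega), Perm.mul_apply]
  have h1 := P.rot_succ (h := hn) (h' := le_rfl) h h'
  rw [swap_apply_of_ne_of_ne (fun e => by rw [e, pa_val] at h1; omega)
    (fun e => by rw [e] at h1; simp only [] at h1; omega), h1]

theorem wL_low {x : Fin P.n} (h : (x : ℕ) < P.p + 2) (ha : x ≠ P.pa) (hb : x ≠ P.pb) :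
    P.wL x = x := by
  unfold wL
  split_ifs with hn
  · rw [P.fixSign_apply _ ha hb, Perm.mul_apply, P.rot_fix (by omega),
      swap_apply_of_ne_of_ne ha (fun e => by rw [e] at h; simp only [] at h; omega)]
  · rfl

theorem wL_pair (hn : P.p + 2 < P.n) :
    (P.wL P.pa = ⟨P.p + 2, hn⟩ ∧ P.wL P.pb = P.pb) ∨
      (P.wL P.pa = P.pb ∧ P.wL P.pb = ⟨P.p + 2, hn⟩) := by
  have hb' : P.pb ≠ ⟨P.p + 2, hn⟩ := fun e => by
    have := congrArg Fin.val e; rw [pb_val] at this; simp only [] at this; omega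
  unfold wL fixSign
  rw [dif_pos hn]
  split_ifs
  · refine Or.inl ⟨?_, ?_⟩
    · rw [Perm.mul_apply, P.rot_fix (by rw [pa_val]; omega), swap_apply_left]
    · rw [Perm.mul_apply, P.rot_fix (by rw [pb_val]; omega), swap_apply_of_ne_of_ne P.hab.symm hb']
  · refine Or.inr ⟨?_, ?_⟩
    · rw [Perm.mul_apply, swap_apply_left, Perm.mul_apply, P.rot_fix (by rw [pb_val]; omega),
        swap_apply_of_ne_of_ne P.hab.symm hb']
    · rw [Perm.mul_apply, swap_apply_right, Perm.mul_apply, P.rot_fix (by rw [pa_val]; omega),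
        swap_apply_left]

theorem wL_mem {ε : Bool} : P.wL ∈ altOn
    ({x | P.gam ε x ∈ P.base.A ∧ x ∉ P.base.A} ∪ {P.base.a, P.base.b}) := by
  refine mem_altOn.2 ⟨fun x hx => ?_, ?_⟩
  · have ha : x ≠ P.pa := fun e => hx (Or.inr (Or.inl e))
    have hb : x ≠ P.pb := fun e => hx (Or.inr (Or.inr e))
    refine P.wL_low ?_ ha hb
    by_contra h
    exact hx (Or.inl ⟨P.mem_B.2 (Or.inr (by omega)), fun h' => h (P.mem_baseA.1 h')⟩)
  · unfold wL
    split_ifs
    · exact P.sign_fixSign _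
    · exact map_one _

theorem wL_hP {ε : Bool} : altOn {x | P.gam ε x ∈ P.base.A} ≤ Subgroup.closure
    ((altOn {x | x ∈ P.base.A ∧ P.gam ε x ∈ P.base.A} : Set (Perm (Fin P.n))) ∪ {P.wL}) := by
  have := P.s_spec
  set H := Subgroup.closure
    ((altOn {x | x ∈ P.base.A ∧ P.gam ε x ∈ P.base.A} : Set (Perm (Fin P.n))) ∪ {P.wL})
  have hS : ∀ σ, σ ∈ altOn (P.base.S (P.gam ε)) → σ ∈ H := fun σ h => Subgroup.subset_closure (Or.inl h)
  have hW : P.wL ∈ H := Subgroup.subset_closure (Or.inr rfl)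
  have h3 : P.p3 ∈ P.base.S (P.gam ε) := P.mem_S.2 (by rw [p3_val]; omega)
  have h4 : P.p4 ∈ P.base.S (P.gam ε) := P.mem_S.2 (by rw [p4_val]; omega)
  have w3 : P.wL P.p3 = P.p3 := P.wL_low (by rw [p3_val]; omega)
    (fun e => by have := congrArg Fin.val e; rw [p3_val, pa_val] at this; omega)
    (fun e => by have := congrArg Fin.val e; rw [p3_val, pb_val] at this; omega)
  have w4 : P.wL P.p4 = P.p4 := P.wL_low (by rw [p4_val]; omega)
    (fun e => by have := congrArg Fin.val e; rw [p4_val, pa_val] at this; omega)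
    (fun e => by have := congrArg Fin.val e; rw [p4_val, pb_val] at this; omega)
  have hstep : ∀ x, cyc3 P.p3 P.p4 x ∈ H → cyc3 P.p3 P.p4 (P.wL x) ∈ H := by
    intro x hx
    have h := mul_mem (mul_mem hW hx) (inv_mem hW)
    rwa [conj_cyc3, w3, w4] at h
  have hab' : ∀ x, x = P.pa ∨ x = P.pb → cyc3 P.p3 P.p4 x ∈ H := by
    intro x hx
    refine hS _ (cyc3_mem_altOn h3 h4 (P.mem_S.2 ?_) P.h34 ?_)
    · rcases hx with rfl | rfl
      · rw [pa_val]; omega
      · rw [pb_val]; omega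
    · rcases hx with rfl | rfl <;> intro e <;> have := congrArg Fin.val e <;>
        simp [p3_val, pa_val, pb_val] at this
  have key : ∀ i : ℕ, (hi : P.p + 2 + i < P.n) → cyc3 P.p3 P.p4 ⟨P.p + 2 + i, hi⟩ ∈ H := by
    intro i
    induction i with
    | zero =>
      intro hi
      rcases P.wL_pair hi with ⟨h, -⟩ | ⟨-, h⟩
      · have := hstep _ (hab' _ (Or.inl rfl)); rwa [h] at this
      · have := hstep _ (hab' _ (Or.inr rfl)); rwa [h] at this
    | succ i ih =>
      intro hi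
      have := hstep _ (ih (by omega))
      rwa [show P.wL ⟨P.p + 2 + i, by omega⟩ = ⟨P.p + 2 + (i + 1), hi⟩ from
        Fin.ext (P.wL_top (by simp) (by simp only []; omega))] at this
  refine (altOn_le_closure (X := {x | P.gam ε x ∈ P.base.A}) h3.2 h4.2 P.h34).trans
    ((Subgroup.closure_le H).2 ?_)
  rintro _ ⟨x, hx, hx3, hx4, rfl⟩
  rcases P.mem_B.1 hx with h | h
  · exact hS _ (cyc3_mem_altOn h3 h4 (P.mem_S.2 h) P.h34 (Ne.symm hx3))
  · have := key ((x : ℕ) - (P.p + 2)) (by omega)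
    rwa [show (⟨P.p + 2 + ((x : ℕ) - (P.p + 2)), by omega⟩ : Fin P.n) = x from
      Fin.ext (by simp only []; omega)] at this

theorem wL_hD {ε : Bool} (j : Fin P.n) (hj : P.gam ε j ∈ P.base.A) (hj' : j ∉ P.base.A) :
    cyc3 P.base.a P.base.b j ∈ Subgroup.closure
      {τ | ∃ σ ∈ altOn {x | x ∈ P.base.A ∧ P.gam ε x ∈ P.base.A},
        (σ '' {P.base.a, P.base.b} = {P.base.a, P.base.b}) ∧ τ = σ * P.wL * σ⁻¹} := by
  have := P.s_spec
  rw [P.mem_baseA] at hj'
  have hn : P.p + 2 < P.n := by omega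
  set H := Subgroup.closure
      {τ | ∃ σ ∈ altOn {x | x ∈ P.base.A ∧ P.gam ε x ∈ P.base.A},
        (σ '' {P.base.a, P.base.b} = {P.base.a, P.base.b}) ∧ τ = σ * P.wL * σ⁻¹}
  have hW : P.wL ∈ H := Subgroup.subset_closure ⟨1, one_mem _, by simp, by simp⟩
  have h3a : P.p3 ≠ P.pa := fun e => by have := congrArg Fin.val e; rw [p3_val, pa_val] at this; omega
  have h3b : P.p3 ≠ P.pb := fun e => by have := congrArg Fin.val e; rw [p3_val, pb_val] at this; omega
  have h4a : P.p4 ≠ P.pa := fun e => by have := congrArg Fin.val e; rw [p4_val, pa_val] at this; omega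
  have h4b : P.p4 ≠ P.pb := fun e => by have := congrArg Fin.val e; rw [p4_val, pb_val] at this; omega
  have w3 : P.wL P.p3 = P.p3 := P.wL_low (by rw [p3_val]; omega) h3a h3b
  have w4 : P.wL P.p4 = P.p4 := P.wL_low (by rw [p4_val]; omega) h4a h4b
  have c34 : P.wL * swap P.p3 P.p4 = swap P.p3 P.p4 * P.wL := by
    rw [mul_swap_eq_swap_mul, w3, w4]
  set σ := swap P.pa P.pb * swap P.p3 P.p4 with hσ
  have hσmem : σ ∈ altOn {x | x ∈ P.base.A ∧ P.gam ε x ∈ P.base.A} := by
    refine mem_altOn.2 ⟨fun x hx => ?_, by rw [hσ, map_mul, sign_swap P.hab, sign_swap P.h34]; decide⟩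
    have hx' : ¬ (x : ℕ) < P.s := fun h => hx (P.mem_S.2 h)
    rw [hσ, Perm.mul_apply, swap_apply_of_ne_of_ne (x := x) (fun e => hx' (by rw [e, p3_val]; omega))
      (fun e => hx' (by rw [e, p4_val]; omega))]
    exact swap_apply_of_ne_of_ne (fun e => hx' (by rw [e, pa_val]; omega))
      (fun e => hx' (by rw [e, pb_val]; omega))
  have hσpair : σ '' {P.base.a, P.base.b} = {P.base.a, P.base.b} := by
    have e1 : σ P.pa = P.pb := by
      rw [hσ, Perm.mul_apply, swap_apply_of_ne_of_ne h3a.symm h4a.symm, swap_apply_left]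
    have e2 : σ P.pb = P.pa := by
      rw [hσ, Perm.mul_apply, swap_apply_of_ne_of_ne h3b.symm h4b.symm, swap_apply_right]
    show σ '' {P.pa, P.pb} = {P.pa, P.pb}
    rw [Set.image_pair, e1, e2, Set.pair_comm]
  have hW' : σ * P.wL * σ⁻¹ ∈ H := Subgroup.subset_closure ⟨σ, hσmem, hσpair, rfl⟩
  have hW'eq : σ * P.wL * σ⁻¹ = swap P.pa P.pb * P.wL * swap P.pa P.pb := by
    rw [hσ, mul_inv_rev, swap_inv, swap_inv]
    calc swap P.pa P.pb * swap P.p3 P.p4 * P.wL * (swap P.p3 P.p4 * swap P.pa P.pb)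
        = swap P.pa P.pb * (swap P.p3 P.p4 * P.wL * swap P.p3 P.p4) * swap P.pa P.pb := by group
      _ = _ := by rw [← c34, mul_assoc P.wL, swap_mul_self, mul_one]
  set j1 : Fin P.n := ⟨P.p + 2, hn⟩ with hj1
  have hbj : P.pb ≠ j1 := fun e => by
    have := congrArg Fin.val e; rw [pb_val] at this; simp only [hj1] at this; omega
  have haj : P.pa ≠ j1 := fun e => by
    have := congrArg Fin.val e; rw [pa_val] at this; simp only [hj1] at this; omega
  have hz : cyc3 P.pa P.pb j1 ∈ H := by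
    have h := inv_mem (mul_mem hW (inv_mem hW'))
    rw [hW'eq] at h
    have e : P.wL * (swap P.pa P.pb * P.wL * swap P.pa P.pb)⁻¹ = (cyc3 P.pa P.pb j1)⁻¹ := by
      rw [mul_inv_rev, mul_inv_rev, swap_inv, ← cyc3_swap P.hab haj hbj, cyc3]
      calc P.wL * (swap P.pa P.pb * (P.wL⁻¹ * swap P.pa P.pb))
          = (P.wL * swap P.pa P.pb * P.wL⁻¹) * swap P.pa P.pb := by group
        _ = _ := by
          rw [← swap_apply_apply, swap_comm P.pb P.pa]
          congr 1
          rcases P.wL_pair hn with ⟨h1, h2⟩ | ⟨h1, h2⟩ <;> rw [h1, h2]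
          exact swap_comm _ _
    rwa [e, inv_inv] at h
  have key : ∀ i : ℕ, (hi : P.p + 2 + i < P.n) → cyc3 P.pa P.pb ⟨P.p + 2 + i, hi⟩ ∈ H := by
    intro i
    induction i with
    | zero => intro hi; exact hz
    | succ i ih =>
      intro hi
      have h := mul_mem (mul_mem hW (ih (by omega))) (inv_mem hW)
      rw [conj_cyc3, show P.wL ⟨P.p + 2 + i, by omega⟩ = ⟨P.p + 2 + (i + 1), hi⟩ from
        Fin.ext (P.wL_top (by simp) (by simp only []; omega))] at h
      set k : Fin P.n := ⟨P.p + 2 + (i + 1), hi⟩ with hk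
      have hkb : k ≠ P.pb := fun e => by
        have := congrArg Fin.val e; rw [pb_val] at this; simp only [hk] at this; omega
      have hka : k ≠ P.pa := fun e => by
        have := congrArg Fin.val e; rw [pa_val] at this; simp only [hk] at this; omega
      have hkj : k ≠ j1 := fun e => by
        have := congrArg Fin.val e; simp only [hk, hj1] at this; omega
      have hu : cyc3 P.pb j1 k ∈ H := by
        rcases P.wL_pair hn with ⟨h1, h2⟩ | ⟨h1, h2⟩ <;> rw [h1, h2] at h
        · rw [cyc3_swap hbj hkb.symm hkj.symm] at h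
          simpa using inv_mem h
        · exact h
      have h' := mul_mem (mul_mem (inv_mem hu) hz) (inv_mem (inv_mem hu))
      rw [conj_cyc3] at h'
      have u1 : (cyc3 P.pb j1 k)⁻¹ P.pa = P.pa := by
        rw [Perm.inv_eq_iff_eq, cyc3_of_ne P.hab haj hka.symm]
      have u2 : (cyc3 P.pb j1 k)⁻¹ P.pb = k := by
        rw [Perm.inv_eq_iff_eq, cyc3_x hkb.symm hkj]
      have u3 : (cyc3 P.pb j1 k)⁻¹ j1 = P.pb := by
        rw [Perm.inv_eq_iff_eq, cyc3_a hbj hkj]
      rw [u1, u2, u3] at h'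
      have e : cyc3 P.pa k P.pb = (cyc3 P.pa P.pb k)⁻¹ := by rw [cyc3_inv, cyc3]
      rw [e] at h'
      simpa using inv_mem h'
  have := key ((j : ℕ) - (P.p + 2)) (by omega)
  rwa [show (⟨P.p + 2 + ((j : ℕ) - (P.p + 2)), by omega⟩ : Fin P.n) = j from
    Fin.ext (by simp only []; omega)] at this

/-- All the data. -/
noncomputable def full (ε : Bool) : Full P.base where
  γ := P.gam ε
  W := P.wL
  c := P.cS
  d := P.e 0
  data :=
    { inv := P.gam_mul ε
      cover := fun x => by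
        rcases Nat.lt_or_ge (x : ℕ) (P.p + 2) with h | h
        · exact Or.inl (P.mem_baseA.2 h)
        · exact Or.inr (P.mem_B.2 (Or.inr h))
      ha := P.base.a_mem
      hb := P.base.b_mem
      hd := P.base.e_mem 0
      hd' := by
        rw [P.gam_fix (by rw [e_val, ZMod.val_zero]; omega)]; exact P.base.e_mem 0
      hab := P.hab
      hda := P.e_ne_a 0
      hdb := P.e_ne_b 0
      fixa := P.gam_fix (by show (P.pa : ℕ) < 3; rw [pa_val]; omega)
      fixb := P.gam_fix (by show (P.pb : ℕ) < 3; rw [pb_val]; omega)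
      third := fun x _ => by
        have := P.h5
        by_cases h : x = P.p3
        · refine ⟨P.p4, P.mem_baseA.2 (by rw [p4_val]; omega), ?_, ?_, ?_, h ▸ P.h34.symm⟩ <;>
            intro e <;> have := congrArg Fin.val e
          · change (4 : ℕ) = 0 at this; omega
          · change (4 : ℕ) = 1 at this; omega
          · rw [p4_val, e_val, ZMod.val_zero] at this; omega
        · refine ⟨P.p3, P.mem_baseA.2 (by rw [p3_val]; omega), ?_, ?_, ?_, Ne.symm h⟩ <;>
            intro e <;> have := congrArg Fin.val e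
          · change (3 : ℕ) = 0 at this; omega
          · change (3 : ℕ) = 1 at this; omega
          · rw [p3_val, e_val, ZMod.val_zero] at this; omega
      hW := P.wL_mem
      hP := P.wL_hP
      hD := P.wL_hD }
  fix0 := P.gam_fix (by show (P.e 0 : ℕ) < 3; rw [e_val, ZMod.val_zero]; omega)
  c_mem := P.cS_mem
  c_gen := P.cS_gen
  P_gen := P.P_gen

theorem exists_sign (u : ℤˣ) : ∃ F : Full P.base, sign F.γ = u := by
  have h : sign (P.gam true) = - sign (P.gam false) := by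
    simp [gam, sign_swap P.h34]
  rcases Int.units_eq_one_or u with rfl | rfl <;>
    rcases Int.units_eq_one_or (sign (P.gam false)) with h' | h'
  · exact ⟨P.full false, h'⟩
  · exact ⟨P.full true, by show sign (P.gam true) = 1; rw [h, h', neg_neg]⟩
  · exact ⟨P.full true, by show sign (P.gam true) = -1; rw [h, h']⟩
  · exact ⟨P.full false, h'⟩

/-- The presentations in the main range. -/
theorem presents :
    (∃ (x : Fin 3 → Perm (Fin P.n)) (rels : Finset (FreeGroup (Fin 3))), rels.card ≤ 6 ∧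
      Presents rels x ∧ Subgroup.closure ({x 0, x 2} : Set (Perm (Fin P.n))) = ⊤) ∧
    (∃ (x : Fin 3 → alternatingGroup (Fin P.n)) (rels : Finset (FreeGroup (Fin 3))), rels.card ≤ 7 ∧
      Presents rels x ∧ Subgroup.closure ({x 0, x 2} : Set (alternatingGroup (Fin P.n))) = ⊤) := by
  obtain ⟨F, hF⟩ := P.exists_sign (-1)
  obtain ⟨F', hF'⟩ := P.exists_sign 1
  obtain ⟨rels, h1, h2, h3⟩ := F.presents_perm hF
  exact ⟨⟨F.gens, rels, h1, h2, h3⟩, F'.presents_alt hF'⟩

end Par

end CfsgLib.ShortPres
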