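import Cfsg.Agent.Lib.ShortPres.Glue
import Cfsg.Agent.Lib.ShortPres.Transfer
import Mathlib.Data.ZMod.Basic
import Mathlib.Algebra.Field.ZMod
import Mathlib.Tactic.LinearCombination
import Mathlib.Tactic.NormNum

/-!
# Four relations for an alternating group of degree `p + 2`, six for a symmetric group
-/

namespace CfsgLib.ShortPres

open Equiv Equiv.Perm

section Cyclic

variable {G : Type*} [Group G] {p : ℕ} [NeZero p]

/-- Powers with exponent in `ZMod p`. -/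
def zp (x : G) (i : ZMod p) : G := x ^ i.val

variable {x : G} (hx : x ^ p = 1)
include hx

theorem zp_add (i j : ZMod p) : zp x (i + j) = zp x i * zp x j := by
  rw [zp, zp, zp, ZMod.val_add, ← pow_eq_pow_mod _ hx, pow_add]

theorem zp_natCast (n : ℕ) : zp x (n : ZMod p) = x ^ n := by
  rw [zp, ZMod.val_natCast, ← pow_eq_pow_mod _ hx]

theorem zp_neg (i : ZMod p) : zp x (-i) = (zp x i)⁻¹ := by
  rw [eq_inv_iff_mul_eq_one, ← zp_add hx, neg_add_cancel, zp, ZMod.val_zero, pow_zero]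

theorem zp_pow (i : ZMod p) (n : ℕ) : zp x i ^ n = zp x ((n : ZMod p) * i) := by
  induction n with
  | zero => simp [zp]
  | succ n ih => rw [pow_succ, ih, ← zp_add hx, Nat.cast_succ, add_mul, one_mul]

end Cyclic

/-- The permutations behind the four relations. -/
structure Base (p : ℕ) (α : Type) [DecidableEq α] [Fintype α] where
  a : α
  b : α
  e : ZMod p → α
  r : ZMod p
  a0 : Perm α
  b0 : Perm α
  hab : a ≠ b
  he : Function.Injective e
  hea : ∀ i, e i ≠ a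
  heb : ∀ i, e i ≠ b
  ha0 : a0 ∈ altOn (insert a (insert b (Set.range e)))
  hb0 : b0 ∈ altOn (insert a (insert b (Set.range e)))
  a0a : a0 a = a
  a0b : a0 b = b
  a0e : ∀ i, a0 (e i) = e (i + 1)
  b0a : b0 a = b
  b0b : b0 b = a
  b0e : ∀ i, b0 (e i) = e (r * i)
  hr : ∀ i : ZMod p, i ≠ 0 → ∃ t : ℕ, r ^ t = i
  hr1 : 1 + r ≠ 0

variable {p : ℕ} [Fact p.Prime] {α : Type} [DecidableEq α] [Fintype α]

namespace Base

variable (B : Base p α)

/-- The points of the first copy. -/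
def A : Set α := insert B.a (insert B.b (Set.range B.e))

theorem a_mem : B.a ∈ B.A := Set.mem_insert _ _
theorem b_mem : B.b ∈ B.A := Set.mem_insert_of_mem _ (Set.mem_insert _ _)
theorem e_mem (i : ZMod p) : B.e i ∈ B.A :=
  Set.mem_insert_of_mem _ (Set.mem_insert_of_mem _ ⟨i, rfl⟩)

/-- The three-cycles. -/
def c (i : ZMod p) : Perm α := cyc3 B.a B.b (B.e i)

theorem c_mem (i : ZMod p) : B.c i ∈ altOn B.A :=
  cyc3_mem_altOn B.a_mem B.b_mem (B.e_mem i) B.hab (Ne.symm (B.hea i))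

theorem conj_a0 (i : ZMod p) : B.a0 * B.c i * B.a0⁻¹ = B.c (i + 1) := by
  rw [c, conj_cyc3, B.a0a, B.a0b, B.a0e]; rfl

theorem conj_b0 (i : ZMod p) : B.b0 * B.c i * B.b0⁻¹ = (B.c (B.r * i))⁻¹ := by
  rw [c, conj_cyc3, B.b0a, B.b0b, B.b0e, c,
    cyc3_swap B.hab (Ne.symm (B.hea _)) (Ne.symm (B.heb _))]

theorem conj_a0_pow (n : ℕ) (i : ZMod p) : B.a0 ^ n * B.c i * (B.a0 ^ n)⁻¹ = B.c (i + n) := by
  induction n with
  | zero => simp
  | succ n ih =>
    rw [Nat.cast_succ, ← add_assoc, ← B.conj_a0, ← ih, pow_succ']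
    group

theorem altOn_le : altOn B.A ≤ Subgroup.closure (Set.range B.c) := by
  refine (altOn_le_closure B.a_mem B.b_mem B.hab).trans (Subgroup.closure_mono ?_)
  rintro _ ⟨x, (rfl | rfl | ⟨i, rfl⟩), hxa, hxb, rfl⟩
  · exact absurd rfl hxa
  · exact absurd rfl hxb
  · exact ⟨i, rfl⟩

theorem exists_u (σ : Perm α) : ∃ u : FreeGroup (ZMod p), σ ∈ altOn B.A → FreeGroup.lift B.c u = σ := by
  by_cases h : σ ∈ altOn B.A
  · have : σ ∈ (FreeGroup.lift B.c).range := by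
      rw [FreeGroup.range_lift_eq_closure]; exact B.altOn_le h
    obtain ⟨u, hu⟩ := this
    exact ⟨u, fun _ => hu⟩
  · exact ⟨1, fun h' => absurd h' h⟩

/-- A word for each even permutation of the first copy. -/
noncomputable def u (σ : Perm α) : FreeGroup (ZMod p) := (B.exists_u σ).choose

theorem lift_u {σ : Perm α} (h : σ ∈ altOn B.A) : FreeGroup.lift B.c (B.u σ) = σ :=
  (B.exists_u σ).choose_spec h

theorem ext_A {σ τ : Perm α} (hσ : σ ∈ altOn B.A) (hτ : τ ∈ altOn B.A) (h1 : σ B.a = τ B.a)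
    (h2 : σ B.b = τ B.b) (h3 : ∀ i, σ (B.e i) = τ (B.e i)) : σ = τ := by
  ext x
  by_cases hx : x ∈ B.A
  · rcases hx with rfl | rfl | ⟨i, rfl⟩
    · exact h1
    · exact h2
    · exact h3 i
  · rw [(mem_altOn.1 hσ).1 x hx, (mem_altOn.1 hτ).1 x hx]

theorem a0_pow_e (n : ℕ) (i : ZMod p) : (B.a0 ^ n) (B.e i) = B.e (i + n) := by
  induction n with
  | zero => simp
  | succ n ih => rw [pow_succ', Perm.mul_apply, ih, B.a0e, Nat.cast_succ, add_assoc]

theorem a0_pow_fix (n : ℕ) : (B.a0 ^ n) B.a = B.a ∧ (B.a0 ^ n) B.b = B.b := by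
  induction n with
  | zero => simp
  | succ n ih => rw [pow_succ', Perm.mul_apply, Perm.mul_apply, ih.1, ih.2]; exact ⟨B.a0a, B.a0b⟩

theorem a0_pow_p : B.a0 ^ p = 1 :=
  B.ext_A ((altOn B.A).pow_mem B.ha0 p) (one_mem _) (B.a0_pow_fix p).1 (B.a0_pow_fix p).2
    fun i => by simp [B.a0_pow_e]

/-- The exponent of the second relation. -/
noncomputable def k : ℕ := ((1 + B.r)⁻¹ : ZMod p).val

theorem k_spec : (B.k : ZMod p) * (1 + B.r) = 1 := by
  rw [k, ZMod.natCast_zmod_val]; exact inv_mul_cancel₀ B.hr1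

theorem rel2 : B.b0 * B.a0 ^ B.k * B.b0⁻¹ = B.a0 * (B.a0 ^ B.k)⁻¹ := by
  rw [mul_inv_eq_iff_eq_mul]
  have hA := B.ha0
  have hB := B.hb0
  refine B.ext_A ((altOn B.A).mul_mem hB ((altOn B.A).pow_mem hA _))
    ((altOn B.A).mul_mem ((altOn B.A).mul_mem hA ((altOn B.A).inv_mem ((altOn B.A).pow_mem hA _))) hB)
    ?_ ?_ fun i => ?_
  · simp only [Perm.mul_apply, (B.a0_pow_fix _).1, B.b0a]
    rw [Perm.inv_eq_iff_eq.2 (B.a0_pow_fix B.k).2.symm, B.a0b]
  · simp only [Perm.mul_apply, (B.a0_pow_fix _).2, B.b0b]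
    rw [Perm.inv_eq_iff_eq.2 (B.a0_pow_fix B.k).1.symm, B.a0a]
  · simp only [Perm.mul_apply, B.a0_pow_e, B.b0e]
    rw [Perm.inv_eq_iff_eq.2 (show B.e (B.r * i) = (B.a0 ^ B.k) (B.e (B.r * i - B.k)) by
      rw [B.a0_pow_e, sub_add_cancel]), B.a0e]
    congr 1
    linear_combination B.k_spec

/-- The four relations in an arbitrary group. -/
structure Rels {G : Type*} [Group G] (x y z : G) : Prop where
  r2 : y * x ^ B.k * y⁻¹ = x * (x ^ B.k)⁻¹
  r3 : z ^ 6 = x ^ p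
  r4 : y * (z ^ 2)⁻¹ * y⁻¹ = ((z ^ 2)⁻¹)⁻¹
  r5 : ((z ^ 2)⁻¹ * (x * (z ^ 2)⁻¹ * x⁻¹)) ^ 2 = 1

variable {G : Type*} [Group G] {x y z : G}

theorem Rels.pow_p (h : B.Rels x y z) : x ^ p = 1 := by
  have h2 := congrArg (· ^ p) h.r2
  simp only [conj_pow, ((Commute.self_pow x B.k).inv_right).mul_pow, inv_pow, ← pow_mul] at h2
  rw [mul_comm B.k p, pow_mul, ← h.r3] at h2
  have h4 := congrArg (· ^ 3) h.r4
  simp only [conj_pow, inv_pow, inv_inv, ← pow_mul] at h4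
  norm_num at h4
  have h5 : y * z ^ 6 * y⁻¹ = (z ^ 6)⁻¹ := by
    have := congrArg (·⁻¹) h4
    simpa [mul_assoc] using this
  rw [← conj_pow, h5, inv_pow] at h2
  rw [← h.r3]
  exact (mul_eq_right.1 h2.symm)

theorem Rels.z6 (h : B.Rels x y z) : z ^ 6 = 1 := h.r3.trans h.pow_p

/-- The images of the three-cycles. -/
def img (x z : G) (i : ZMod p) : G := zp x i * (z ^ 2)⁻¹ * (zp x i)⁻¹

theorem Rels.conj_zp (h : B.Rels x y z) (i : ZMod p) : y * zp x i * y⁻¹ = zp x (B.r * i) := by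
  have hx := h.pow_p
  have hk : y * zp x (B.k : ZMod p) * y⁻¹ = zp x (1 - B.k : ZMod p) := by
    rw [sub_eq_add_neg, zp_add hx, zp_neg hx, zp_natCast hx, h.r2,
      show (1 : ZMod p) = ((1 : ℕ) : ZMod p) by simp, zp_natCast hx, pow_one]
  obtain ⟨n, hn⟩ : ∃ n : ℕ, (n : ZMod p) = (1 + B.r) * i := ⟨_, ZMod.natCast_zmod_val _⟩
  have e1 : i = (n : ZMod p) * B.k := by rw [hn]; linear_combination (-i) * B.k_spec
  conv_lhs => rw [e1, ← zp_pow hx, ← conj_pow, hk, zp_pow hx]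
  congr 1
  rw [hn]; linear_combination (-i) * B.k_spec

theorem Rels.conj_img (h : B.Rels x y z) (i : ZMod p) :
    y * img x z i * y⁻¹ = (img x z (B.r * i))⁻¹ := by
  unfold img
  rw [show y * (zp x i * (z ^ 2)⁻¹ * (zp x i)⁻¹) * y⁻¹ =
    (y * zp x i * y⁻¹) * (y * (z ^ 2)⁻¹ * y⁻¹) * (y * zp x i * y⁻¹)⁻¹ by group, h.conj_zp, h.r4]
  group

theorem Rels.conj_x (h : B.Rels x y z) (i : ZMod p) : x * img x z i * x⁻¹ = img x z (i + 1) := by
  unfold img
  have hx := h.pow_p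
  have : zp x (i + 1) = x * zp x i := by
    rw [add_comm, zp_add hx, show (1 : ZMod p) = ((1 : ℕ) : ZMod p) by simp, zp_natCast hx, pow_one]
  rw [this]
  group

theorem Rels.carm (h : B.Rels x y z) : Carm (img (p := p) x z) := by
  have hx := h.pow_p
  have h0 : img x z (0 : ZMod p) = (z ^ 2)⁻¹ := by simp [img, zp]
  refine ⟨fun i => ?_, ?_⟩
  · rw [img, conj_pow, inv_pow, ← pow_mul, show 2 * 3 = 6 from rfl, h.z6]
    simp
  have step : ∀ d : ZMod p, (img x z (0 : ZMod p) * img x z d) ^ 2 = 1 →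
      (img x z (0 : ZMod p) * img x z (B.r * d)) ^ 2 = 1 := by
    intro d hd
    have := congrArg (fun u => y * u * y⁻¹) hd
    simp only [← conj_pow, mul_one, mul_inv_cancel] at this
    rw [show y * (img x z (0 : ZMod p) * img x z d) * y⁻¹ =
      (y * img x z (0 : ZMod p) * y⁻¹) * (y * img x z d * y⁻¹) by group, h.conj_img, h.conj_img, mul_zero,
      ← mul_inv_rev, inv_pow, inv_eq_one] at this
    have e := congrArg (fun u => img x z (0 : ZMod p) * u * (img x z (0 : ZMod p))⁻¹) this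
    simp only [mul_one, mul_inv_cancel, pow_two] at e
    rw [pow_two]
    rw [← e]; group
  have hpow : ∀ t : ℕ, (img x z (0 : ZMod p) * img x z (B.r ^ t)) ^ 2 = 1 := by
    intro t
    induction t with
    | zero =>
      rw [pow_zero, ← zero_add (1 : ZMod p), ← h.conj_x, h0]
      exact h.r5
    | succ t ih => rw [pow_succ' B.r]; exact step _ ih
  intro i j hij
  obtain ⟨t, ht⟩ := B.hr (j - i) (sub_ne_zero.2 (Ne.symm hij))
  have := congrArg (fun u => zp x i * u * (zp x i)⁻¹) (hpow t)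
  simp only [← conj_pow, mul_one, mul_inv_cancel] at this
  rw [ht] at this
  rw [← this]
  congr 1
  have e1 : ∀ d, zp x i * img x z d * (zp x i)⁻¹ = img x z (i + d) := by
    intro d; unfold img; rw [zp_add hx]; group
  rw [show zp x i * (img x z (0 : ZMod p) * img x z (j - i)) * (zp x i)⁻¹ =
    (zp x i * img x z (0 : ZMod p) * (zp x i)⁻¹) * (zp x i * img x z (j - i) * (zp x i)⁻¹) by group, e1, e1,
    add_zero, add_sub_cancel]

/-- The homomorphism of the first copy. -/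
theorem Rels.exists_f (h : B.Rels x y z) : ∃ f : Perm α → G, OnHom B.A f ∧
    (∀ i, f (B.c i) = img x z i) ∧
    (∀ σ ∈ altOn B.A, Commute (x * (f B.a0)⁻¹) (f σ)) ∧
    (∀ σ ∈ altOn B.A, Commute (y * (f B.b0)⁻¹) (f σ)) := by
  classical
  obtain ⟨φ, hφ⟩ := h.carm.exists_hom B.he B.hab B.hea B.heb
  let f : Perm α → G := fun σ => if hσ : σ ∈ altOn B.A then φ ⟨σ, hσ⟩ else 1
  have hf : OnHom B.A f := ⟨fun σ hσ τ hτ => by
    simp only [f]
    rw [dif_pos ((altOn B.A).mul_mem hσ hτ), dif_pos hσ, dif_pos hτ, ← map_mul]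
    rfl⟩
  have hc : ∀ i, f (B.c i) = img x z i := fun i => by
    simp only [f]
    rw [dif_pos (B.c_mem i)]
    exact hφ i
  have key : ∀ (v : G) (σ0 : Perm α), σ0 ∈ altOn B.A →
      (∀ i, ∃ ρ ∈ altOn B.A, σ0 * B.c i * σ0⁻¹ = ρ ∧ v * img x z i * v⁻¹ = f ρ) →
      ∀ σ ∈ altOn B.A, Commute (v * (f σ0)⁻¹) (f σ) := by
    intro v σ0 hσ0 hv σ hσ
    have hcomm : Commute ((f σ0)⁻¹ * v) (f (σ0⁻¹ * σ * σ0⁻¹⁻¹)) := by
      have hmem' : f (σ0⁻¹ * σ * σ0⁻¹⁻¹) ∈ Subgroup.centralizer {(f σ0)⁻¹ * v} := by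
        refine hf.mem_of_gen _ ?_ (B.altOn_le ((altOn B.A).mul_mem ((altOn B.A).mul_mem
          ((altOn B.A).inv_mem hσ0) hσ) ((altOn B.A).inv_mem ((altOn B.A).inv_mem hσ0))))
        rintro _ ⟨i, rfl⟩
        obtain ⟨ρ, -, h1, h2⟩ := hv i
        refine ⟨B.c_mem i, Subgroup.mem_centralizer_singleton_iff.2 ?_⟩
        rw [← h1, hf.conj hσ0 (B.c_mem i), hc] at h2
        rw [hc]
        symm
        calc (f σ0)⁻¹ * v * img x z i = (f σ0)⁻¹ * (v * img x z i * v⁻¹) * v := by group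
          _ = img x z i * ((f σ0)⁻¹ * v) := by rw [h2]; group
      exact (Subgroup.mem_centralizer_singleton_iff.1 hmem').symm
    rw [hf.conj ((altOn B.A).inv_mem hσ0) hσ, hf.inv hσ0, inv_inv] at hcomm
    have := hcomm.conj (f σ0)
    convert this using 1 <;> group
  refine ⟨f, hf, hc, ?_, ?_⟩
  · exact key x B.a0 B.ha0 fun i => ⟨_, B.c_mem (i + 1), B.conj_a0 i, by rw [hc, h.conj_x]⟩
  · exact key y B.b0 B.hb0 fun i => ⟨_, (altOn B.A).inv_mem (B.c_mem (B.r * i)), B.conj_b0 i, by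
      rw [hf.inv (B.c_mem _), hc, h.conj_img]⟩

end Base

end CfsgLib.ShortPres
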